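import Mathlib

/-!
A finite `2`-group with a fixed-point-free automorphism of order `3` has class at most two.
-/

set_option autoImplicit false

universe u

namespace CfsgLib.FpfTwo

open scoped commutatorElement

/-- An involutive map on a finite type of cardinality `≡ r mod 2` has as many fixed points mod 2. -/
theorem fixed_parity {α : Type*} [Finite α] (f : α → α) (hf : ∀ a, f (f a) = a) :
    Nat.card {a : α // f a = a} % 2 = Nat.card α % 2 := by
  classical
  haveI := Fintype.ofFinite α
  haveI : Fact (Nat.Prime 2) := ⟨Nat.prime_two⟩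
  let σ : Equiv.Perm α := Function.Involutive.toPerm f hf
  have hσ : σ ^ 2 ^ 1 = 1 := by
    ext a
    simp [σ, pow_two]
    exact hf a
  have h := Equiv.Perm.card_compl_support_modEq hσ
  have e : Nat.card {a : α // f a = a} = σ.supportᶜ.card := by
    rw [Nat.card_eq_fintype_card, Fintype.card_subtype]
    congr 1
    ext a
    simp [σ]
    exact Iff.rfl
  rw [e, Nat.card_eq_fintype_card]
  exact h

section Identities

variable {T : Type*} [Group T]

theorem hall_witt (x y z : T) :
    ⁅⁅x, y⁆, y * z * y⁻¹⁆ * ⁅⁅y, z⁆, z * x * z⁻¹⁆ * ⁅⁅z, x⁆, x * y * x⁻¹⁆ = 1 := by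
  simp only [commutatorElement_def]; group

end Identities

section Three

variable {T : Type*} [Group T] [Finite T] (r : MulAut T)

theorem one_add_r_add_sq (h3 : ∀ x, r (r (r x)) = x) (hfpf : ∀ x, r x = x → x = 1) (x : T) :
    x * r x * r (r x) = 1 := by
  have hinj : Function.Injective (fun a : T => a⁻¹ * r a) := by
    intro a b hab
    have : r (a * b⁻¹) = a * b⁻¹ := by
      simp only [map_mul, map_inv]
      calc r a * (r b)⁻¹ = a * (a⁻¹ * r a) * (r b)⁻¹ := by group
        _ = a * (b⁻¹ * r b) * (r b)⁻¹ := by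
            rw [show a⁻¹ * r a = b⁻¹ * r b from hab]
        _ = a * b⁻¹ := by group
    exact mul_inv_eq_one.mp (hfpf _ this)
  obtain ⟨a, ha⟩ := (Finite.injective_iff_surjective.mp hinj) x
  rw [← show a⁻¹ * r a = x from ha]
  simp only [map_mul, map_inv, h3]
  group

theorem commute_r (h3 : ∀ x, r (r (r x)) = x) (hfpf : ∀ x, r x = x → x = 1) (x : T) :
    Commute x (r x) := by
  have h1 := one_add_r_add_sq r h3 hfpf x
  have h2 := one_add_r_add_sq (r * r) (fun y => by simp [MulAut.mul_apply, h3])
    (fun y hy => hfpf y (by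
      simp only [MulAut.mul_apply] at hy
      have := congrArg r hy
      rw [h3] at this
      exact this.symm)) x
  simp only [MulAut.mul_apply, h3] at h2
  -- `r x * r (r x)` and `r (r x) * r x` are both `x⁻¹`
  have e : r x * r (r x) = r (r x) * r x := by
    rw [mul_assoc] at h1 h2
    exact (eq_inv_of_mul_eq_one_right h1).trans (eq_inv_of_mul_eq_one_right h2).symm
  have := congrArg r (congrArg r e)
  simp only [map_mul, h3] at this
  exact this

end Three

theorem class_le_two : ∀ {T : Type u} [Group T] [Finite T], IsPGroup 2 T → ∀ (r : MulAut T),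
    (∀ x, r (r (r x)) = x) → (∀ x, r x = x → x = 1) →
    ∀ x y z : T, ⁅⁅x, y⁆, z⁆ = 1 := by
  suffices key : ∀ (m : ℕ) (T : Type u) [Group T] [Finite T], Nat.card T < m → IsPGroup 2 T →
      ∀ (r : MulAut T), (∀ x, r (r (r x)) = x) → (∀ x, r x = x → x = 1) →
      ∀ x y z : T, ⁅⁅x, y⁆, z⁆ = 1 from
    fun {T} _ _ hT r h3 hf => key _ T (Nat.lt_succ_self _) hT r h3 hf
  intro m
  induction m with
  | zero => intro T _ _ h; exact absurd h (Nat.not_lt_zero _)
  | succ m ih =>
    intro T _ _ hlt hT r h3 hfpf
    haveI : Fact (Nat.Prime 2) := ⟨Nat.prime_two⟩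
    rcases subsingleton_or_nontrivial T with hs | hnt
    · intro x y z; exact Subsingleton.elim _ _
    set Z := Subgroup.center T with hZ
    haveI : Nontrivial Z := hT.center_nontrivial
    have hrZ : Z.map r.toMonoidHom = Z := by
      ext x
      simp only [Subgroup.mem_map, MulEquiv.coe_toMonoidHom, hZ, Subgroup.mem_center_iff]
      constructor
      · rintro ⟨y, hy, rfl⟩ g
        obtain ⟨g', rfl⟩ := r.surjective g
        rw [← map_mul, hy, map_mul]
      · intro h
        obtain ⟨y, rfl⟩ := r.surjective x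
        exact ⟨y, fun g => r.injective (by rw [map_mul, map_mul]; exact h _), rfl⟩
    set q : MulAut (T ⧸ Z) := QuotientGroup.congr Z Z r hrZ with hqdef
    have hq : ∀ x : T, q (x : T ⧸ Z) = (r x : T ⧸ Z) := fun x => rfl
    have hrmem : ∀ z ∈ Z, r z ∈ Z := fun z hz => hrZ ▸ Subgroup.mem_map_of_mem _ hz
    have hqf : ∀ w, q w = w → w = 1 := by
      intro w hw
      obtain ⟨x, rfl⟩ := QuotientGroup.mk'_surjective Z w
      rw [QuotientGroup.mk'_apply, hq, eq_comm, QuotientGroup.eq] at hw
      have hinj : Function.Injective (fun a : Z => (⟨(a : T)⁻¹ * r a,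
          Z.mul_mem (Z.inv_mem a.2) (hrmem a a.2)⟩ : Z)) := by
        intro a b hab
        have h := congrArg Subtype.val hab
        simp only at h
        have : r ((a : T) * (b : T)⁻¹) = (a : T) * (b : T)⁻¹ := by
          simp only [map_mul, map_inv]
          calc r a * (r b)⁻¹ = (a : T) * ((a : T)⁻¹ * r a) * (r b)⁻¹ := by group
            _ = (a : T) * ((b : T)⁻¹ * r b) * (r b)⁻¹ := by rw [h]
            _ = (a : T) * (b : T)⁻¹ := by group
        exact Subtype.ext (mul_inv_eq_one.mp (hfpf _ this))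
      obtain ⟨a, ha⟩ := (Finite.injective_iff_surjective.mp hinj) ⟨x⁻¹ * r x, hw⟩
      have h := congrArg Subtype.val ha
      simp only at h
      have hxa : x = a := by
        have : r (x * (a : T)⁻¹) = x * (a : T)⁻¹ := by
          simp only [map_mul, map_inv]
          calc r x * (r a)⁻¹ = x * (x⁻¹ * r x) * (r a)⁻¹ := by group
            _ = x * ((a : T)⁻¹ * r a) * (r a)⁻¹ := by rw [h]
            _ = x * (a : T)⁻¹ := by group
        exact mul_inv_eq_one.mp (hfpf _ this)
      rw [QuotientGroup.mk'_apply, QuotientGroup.eq_one_iff, hxa]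
      exact a.2
    have hq3 : ∀ w, q (q (q w)) = w := by
      intro w
      obtain ⟨x, rfl⟩ := QuotientGroup.mk'_surjective Z w
      rw [QuotientGroup.mk'_apply, hq, hq, hq, h3]
    have hlt' : Nat.card (T ⧸ Z) < m := by
      have h1 : Nat.card T = Nat.card (T ⧸ Z) * Nat.card Z := Z.card_eq_card_quotient_mul_card_subgroup
      have h2 : 1 < Nat.card Z := Finite.one_lt_card
      have h3 : 0 < Nat.card (T ⧸ Z) := Nat.card_pos
      nlinarith
    have hcz : ∀ x y z : T, ⁅⁅x, y⁆, z⁆ ∈ Z := by
      intro x y z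
      rw [← QuotientGroup.eq_one_iff]
      have := ih (T ⧸ Z) hlt' (hT.to_quotient Z) q hq3 hqf (QuotientGroup.mk' Z x)
        (QuotientGroup.mk' Z y) (QuotientGroup.mk' Z z)
      rw [← map_commutatorElement (QuotientGroup.mk' Z), ← map_commutatorElement (QuotientGroup.mk' Z)] at this
      exact this
    -- trilinearity of `f x y z = ⁅⁅x, y⁆, z⁆`
    let f : T → T → T → T := fun x y z => ⁅⁅x, y⁆, z⁆
    have hf : ∀ x y z g : T, g * f x y z = f x y z * g := fun x y z g =>
      Subgroup.mem_center_iff.mp (hcz x y z) g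
    have lin3 : ∀ x y z w, f x y (z * w) = f x y z * f x y w := by
      intro x y z w
      calc f x y (z * w) = f x y z * (z * f x y w * z⁻¹) := by
            simp only [f, commutatorElement_def]; group
        _ = f x y z * f x y w := by rw [hf x y w z]; group
    have anti : ∀ x y z, f y x z = (f x y z)⁻¹ := by
      intro x y z
      calc f y x z = ⁅x, y⁆⁻¹ * (f x y z)⁻¹ * ⁅x, y⁆ := by
            simp only [f, commutatorElement_def]; group
        _ = (f x y z)⁻¹ := by
            have := hf x y z ⁅x, y⁆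
            calc ⁅x, y⁆⁻¹ * (f x y z)⁻¹ * ⁅x, y⁆
                = ⁅x, y⁆⁻¹ * ((f x y z)⁻¹ * (⁅x, y⁆ * f x y z) * (f x y z)⁻¹) := by group
              _ = ⁅x, y⁆⁻¹ * ((f x y z)⁻¹ * (f x y z * ⁅x, y⁆) * (f x y z)⁻¹) := by rw [this]
              _ = _ := by group
    have lin1 : ∀ x w y z, f (x * w) y z = f x y z * f w y z := by
      intro x w y z
      have hk : ∀ g, g * (f w y x)⁻¹ = (f w y x)⁻¹ * g := fun g =>
        Subgroup.mem_center_iff.mp (inv_mem (hcz w y x)) g
      have e1 : ⁅x * w, y⁆ = (f w y x)⁻¹ * (⁅w, y⁆ * ⁅x, y⁆) := by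
        simp only [f, commutatorElement_def]; group
      set k := (f w y x)⁻¹ with hkdef
      have hkz : ⁅k, z⁆ = 1 := commutatorElement_eq_one_iff_commute.mpr (hk z).symm
      calc f (x * w) y z = ⁅k * (⁅w, y⁆ * ⁅x, y⁆), z⁆ := by rw [← e1]
        _ = k * ⁅⁅w, y⁆ * ⁅x, y⁆, z⁆ * k⁻¹ * ⁅k, z⁆ := by simp only [commutatorElement_def]; group
        _ = ⁅⁅w, y⁆ * ⁅x, y⁆, z⁆ := by rw [hkz, mul_one, ← hk]; group
        _ = ⁅w, y⁆ * f x y z * ⁅w, y⁆⁻¹ * f w y z := by
            simp only [f, commutatorElement_def]; group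
        _ = f x y z * f w y z := by rw [hf x y z]; group
    have lin2 : ∀ x y w z, f x (y * w) z = f x y z * f x w z := by
      intro x y w z
      rw [anti (y * w) x, lin1, mul_inv_rev, ← anti, ← anti, hf]
    have one3 : ∀ x y, f x y 1 = 1 := fun x y => by simp [f]
    have inv3 : ∀ x y z, f x y z⁻¹ = (f x y z)⁻¹ := fun x y z => by
      have := lin3 x y z z⁻¹
      rw [mul_inv_cancel, one3] at this
      exact eq_inv_of_mul_eq_one_right this.symm
    have conj3 : ∀ x y z w, f x y (w * z * w⁻¹) = f x y z := fun x y z w => by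
      rw [lin3, lin3, inv3, hf x y z (f x y w)]
      group
    have jac : ∀ x y z, f x y z * f y z x * f z x y = 1 := fun x y z => by
      have := hall_witt x y z
      rw [← conj3 x y z y, ← conj3 y z x z, ← conj3 z x y x]
      exact this
    have hself : ∀ x z, f x (r x) z = 1 := fun x z => by
      simp only [f, commutatorElement_eq_one_iff_commute.mpr (commute_r r h3 hfpf x)]
      simp
    -- linearisation
    have twist : ∀ x y z, f (r x) y z = f x (r y) z := by
      intro x y z
      have := hself (x * y) z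
      rw [map_mul, lin1, lin2, lin2, hself, hself, one_mul, mul_one] at this
      rw [anti y (r x), eq_inv_of_mul_eq_one_left this]
    have hrf : ∀ x y z, r (f x y z) = f (r x) (r y) (r z) := fun x y z => by
      simp [f, commutatorElement_def]
    have hxx : ∀ x z, f x z x = 1 := by
      have A : ∀ x y, f x y (r x) = f x (r y) x := by
        intro x y
        have h := jac x y (r x)
        rw [anti x (r x) y, hself, inv_one, mul_one] at h
        rw [eq_inv_of_mul_eq_one_left h, anti (r x) y, inv_inv, twist]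
      intro x z
      obtain ⟨y, rfl⟩ := r.surjective z
      refine hfpf _ ?_
      rw [hrf, twist, h3, A]
    have cyc : ∀ a b c, f a b c = f b c a := by
      intro a b c
      have h := hxx (a * c) b
      rw [lin1, lin3, lin3, hxx, hxx, one_mul, mul_one] at h
      rw [anti c b, eq_inv_of_mul_eq_one_left h]
    intro x y z
    have h := jac x y z
    rw [← cyc x y z, cyc z x y] at h
    obtain ⟨k, hk⟩ := hT (f x y z)
    have h3' : (f x y z) ^ 3 = 1 := by rw [pow_succ, pow_two]; exact h
    have h4 : orderOf (f x y z) ∣ Nat.gcd 3 (2 ^ k) :=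
      Nat.dvd_gcd (orderOf_dvd_of_pow_eq_one h3') (orderOf_dvd_of_pow_eq_one hk)
    have h5 : Nat.gcd 3 (2 ^ k) = 1 := Nat.Coprime.pow_right k (by norm_num)
    rw [h5, Nat.dvd_one, orderOf_eq_one_iff] at h4
    exact h4

end CfsgLib.FpfTwo
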