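import Cfsg.Agent.Lib.FpfTwo.ClassTwo
import Cfsg.Agent.Lib.PSLn.Sylow

/-!
`2`-groups with an involutive automorphism whose fixed points form a central four-group, acted on
fixed-point-freely by a commuting automorphism of order `3`: the case with an outside involution.
-/

set_option autoImplicit false
set_option linter.unusedSectionVars false

universe u

namespace CfsgLib.FpfTwo

open scoped commutatorElement
open Matrix

/-- The data. -/
structure Data (T : Type u) [Group T] (V : Subgroup T) (t r : MulAut T) : Prop where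
  pgroup : IsPGroup 2 T
  central : V ≤ Subgroup.center T
  cardV : Nat.card V = 4
  sqV : ∀ v ∈ V, v * v = 1
  t2 : ∀ x, t (t x) = x
  r3 : ∀ x, r (r (r x)) = x
  comm : ∀ x, t (r x) = r (t x)
  fix : ∀ x, t x = x ↔ x ∈ V
  rfix : ∀ v ∈ V, r v = v → v = 1

variable {T : Type u} [Group T] [Finite T] {V : Subgroup T} {t r : MulAut T}

theorem Data.fpf (D : Data T V t r) (x : T) (hx : r x = x) : x = 1 := by
  classical
  haveI : Fact (Nat.Prime 2) := ⟨Nat.prime_two⟩
  let C : Subgroup T := r.toMonoidHom.eqLocus (MonoidHom.id T)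
  have hC : ∀ a, a ∈ C ↔ r a = a := fun a => Iff.rfl
  have hx' : x ∈ C := hx
  let f : C → C := fun a => ⟨t a, by rw [hC, ← D.comm, (hC _).mp a.2]⟩
  have hp := fixed_parity f (fun a => Subtype.ext (D.t2 a))
  have hone : Nat.card {a : C // f a = a} = 1 := by
    rw [Nat.card_eq_one_iff_unique]
    refine ⟨⟨fun a b => ?_⟩, ⟨⟨1, Subtype.ext (by simp [f])⟩⟩⟩
    have key : ∀ c : {a : C // f a = a}, ((c.1 : C) : T) = 1 := fun c =>
      D.rfix _ ((D.fix _).mp (congrArg Subtype.val c.2)) ((hC _).mp c.1.2)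
    exact Subtype.ext (Subtype.ext ((key a).trans (key b).symm))
  obtain ⟨n, hn⟩ := IsPGroup.iff_card.mp (D.pgroup.to_subgroup C)
  rcases n with _ | n
  · rw [pow_zero] at hn
    have : C = ⊥ := Subgroup.card_eq_one.mp hn
    rw [this] at hx'
    exact Subgroup.mem_bot.mp hx'
  · rw [hone, hn, pow_succ] at hp
    simp at hp

/-- A `t`-invariant subgroup with few inverted elements is the whole group. -/
theorem Data.eq_top_of_count (D : Data T V t r) (B : Subgroup T) (hB : ∀ b ∈ B, t b ∈ B)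
    (W : Set T) (hW : ∀ w ∈ B, t w = w⁻¹ → w ∈ W) (hcard : Nat.card W * 4 ≤ Nat.card B) :
    B = ⊤ := by
  classical
  haveI : Fact (Nat.Prime 2) := ⟨Nat.prime_two⟩
  haveI := Fintype.ofFinite T
  let S : Set T := {x | x⁻¹ * t x ∈ B}
  have hBS : (B : Set T) ⊆ S := fun b hb => B.mul_mem (B.inv_mem hb) (hB b hb)
  -- a section of `x ↦ x⁻¹ * t x`
  let g : S → W := fun x => ⟨(x : T)⁻¹ * t x, hW _ x.2 (by
    rw [map_mul, map_inv, D.t2, _root_.mul_inv_rev, inv_inv])⟩
  let sec : W → T := fun w => if h : ∃ y : T, y⁻¹ * t y = w then h.choose else 1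
  let h : S → W × V := fun x => (g x, ⟨(x : T) * (sec (g x))⁻¹, by
    have hex : ∃ y : T, y⁻¹ * t y = (g x : T) := ⟨x, rfl⟩
    have hs : (sec (g x))⁻¹ * t (sec (g x)) = (x : T)⁻¹ * t x := by
      simp only [sec, dif_pos hex]
      exact hex.choose_spec
    rw [← D.fix, map_mul, map_inv]
    generalize sec (g x) = y at hs
    calc t x * (t y)⁻¹ = (x : T) * ((x : T)⁻¹ * t x) * (t y)⁻¹ := by group
      _ = (x : T) * (y⁻¹ * t y) * (t y)⁻¹ := by rw [hs]
      _ = (x : T) * y⁻¹ := by group⟩)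
  have hinj : Function.Injective h := by
    intro a b hab
    have h1 := congrArg Prod.fst hab
    have h2 := congrArg (fun p : W × V => ((p.2 : V) : T)) hab
    simp only [h] at h1 h2
    rw [h1] at h2
    exact Subtype.ext (mul_right_cancel h2)
  have hle := Nat.card_le_card_of_injective h hinj
  rw [Nat.card_prod, D.cardV] at hle
  have hSB : S = (B : Set T) := (Set.eq_of_subset_of_ncard_le hBS (by
    rw [← Nat.card_coe_set_eq, ← Nat.card_coe_set_eq]
    exact hle.trans hcard) (Set.toFinite S)).symm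
  let f : T ⧸ B → T ⧸ B := Quotient.map' (fun x => t x) (fun a b hab => by
    rw [QuotientGroup.leftRel_apply] at hab ⊢
    rw [← map_inv, ← map_mul]
    exact hB _ hab)
  have hf : ∀ x : T, f (x : T ⧸ B) = ((t x : T) : T ⧸ B) := fun x => rfl
  have hp := fixed_parity f (fun q => by
    induction q using QuotientGroup.induction_on with | H z => rw [hf, hf, D.t2])
  have hone : Nat.card {a : T ⧸ B // f a = a} = 1 := by
    rw [Nat.card_eq_one_iff_unique]
    refine ⟨⟨fun a b => ?_⟩, ⟨⟨((1 : T) : T ⧸ B), by rw [hf, map_one]⟩⟩⟩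
    have key : ∀ c : {a : T ⧸ B // f a = a}, c.1 = ((1 : T) : T ⧸ B) := by
      rintro ⟨q, hq⟩
      induction q using QuotientGroup.induction_on with
      | H z =>
        rw [hf, eq_comm, QuotientGroup.eq] at hq
        have : z ∈ (B : Set T) := hSB ▸ hq
        show (z : T ⧸ B) = _
        rw [QuotientGroup.eq, mul_one]
        exact B.inv_mem this
    exact Subtype.ext ((key a).trans (key b).symm)
  have hidx : Nat.card (T ⧸ B) = B.index := rfl
  obtain ⟨n, hn⟩ := D.pgroup.index B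
  rcases n with _ | n
  · exact Subgroup.index_eq_one.mp (by simpa using hn)
  · rw [hone, hidx, hn, pow_succ] at hp
    simp at hp

/-! ### Orbit parametrisations -/

section Field

variable {F : Type} [Field F] [DecidableEq F]

/-- `0 ↦ 1`, `1 ↦ u`, `ω ↦ s u`, else `s (s u)`. -/
def orb (ω : F) (s : MulAut T) (u : T) (a : F) : T :=
  if a = 0 then 1 else if a = 1 then u else if a = ω then s u else s (s u)

structure Four (ω : F) : Prop where
  ne_zero : ω ≠ 0
  ne_one : ω ≠ 1
  sq : ω * ω = ω + 1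
  two : (2 : F) = 0
  cases : ∀ a : F, a = 0 ∨ a = 1 ∨ a = ω ∨ a = ω + 1

variable {ω : F} (h : Four ω) {s : MulAut T} {u : T}

theorem Four.succ_ne (h : Four ω) : ω + 1 ≠ 0 ∧ ω + 1 ≠ 1 ∧ ω + 1 ≠ ω := by
  refine ⟨fun e => h.ne_one ?_, fun e => h.ne_zero (by linear_combination e), fun e => ?_⟩
  · linear_combination e - h.two
  · exact one_ne_zero (by linear_combination e)

theorem orb_zero : orb ω s u 0 = 1 := by simp [orb]

theorem orb_one : orb ω s u 1 = u := by simp [orb]

theorem orb_omega (h : Four ω) : orb ω s u ω = s u := by simp [orb, h.ne_zero, h.ne_one]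

theorem orb_succ (h : Four ω) : orb ω s u (ω + 1) = s (s u) := by
  obtain ⟨a, b, c⟩ := h.succ_ne
  rw [orb, if_neg a, if_neg b, if_neg c]

theorem orb_map (φ : MulAut T) (hφ : ∀ x, φ (s x) = s (φ x)) (a : F) :
    φ (orb ω s u a) = orb ω s (φ u) a := by
  unfold orb
  split_ifs <;> simp [hφ]

theorem orb_omega_mul (h : Four ω) (h3 : ∀ x, s (s (s x)) = x) (a : F) :
    orb ω s u (ω * a) = s (orb ω s u a) := by
  rcases h.cases a with rfl | rfl | rfl | rfl
  · simp [orb_zero]
  · rw [mul_one, orb_omega h, orb_one]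
  · rw [h.sq, orb_succ h, orb_omega h]
  · rw [show ω * (ω + 1) = 1 by linear_combination h.sq + ω * h.two, orb_one, orb_succ h, h3]

theorem orb_add (h : Four ω) (huu : u * u = 1) (hmul : u * s u = s (s u))
    (hcomm : Commute u (s u)) (h3 : ∀ x, s (s (s x)) = x) (a b : F) :
    orb ω s u (a + b) = orb ω s u a * orb ω s u b := by
  have hsu : s u * s u = 1 := by rw [← map_mul, huu, map_one]
  have hssu : s (s u) * s (s u) = 1 := by rw [← map_mul, hsu, map_one]
  have e1 : s u * s (s u) = u := by rw [← map_mul, hmul, h3]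
  have e2 : s (s u) * u = s u := by
    rw [← hmul, hcomm.eq, mul_assoc, huu, mul_one]
  have e3 : s u * u = s (s u) := by rw [← hcomm.eq, hmul]
  have e4 : s (s u) * s u = u := by rw [← hmul, mul_assoc, hsu, mul_one]
  have e5 : u * s (s u) = s u := by rw [← hmul, ← mul_assoc, huu, one_mul]
  have h2 := h.two
  rcases h.cases a with ha | ha | ha | ha <;> rcases h.cases b with hb | hb | hb | hb <;>
    simp only [ha, hb, zero_add, add_zero, orb_zero, one_mul, mul_one]
  · rw [show (1 : F) + 1 = 0 by linear_combination h2, orb_zero, orb_one, huu]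
  · rw [add_comm, orb_succ h, orb_one, orb_omega h, hmul]
  · rw [show 1 + (ω + 1) = ω by linear_combination h2, orb_one, orb_succ h, orb_omega h, e5]
  · rw [orb_succ h, orb_one, orb_omega h, e3]
  · rw [show ω + ω = 0 by linear_combination ω * h2, orb_zero, orb_omega h, hsu]
  · rw [show ω + (ω + 1) = 1 by linear_combination ω * h2, orb_one, orb_omega h, orb_succ h, e1]
  · rw [show ω + 1 + 1 = ω by linear_combination h2, orb_one, orb_succ h, orb_omega h, e2]
  · rw [show ω + 1 + ω = 1 by linear_combination ω * h2, orb_one, orb_omega h, orb_succ h, e4]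
  · rw [show ω + 1 + (ω + 1) = 0 by linear_combination (ω + 1) * h2, orb_zero, orb_succ h, hssu]

theorem orb_injective (h : Four ω) (huu : u * u = 1) (hmul : u * s u = s (s u))
    (hcomm : Commute u (s u)) (h3 : ∀ x, s (s (s x)) = x) (hu : u ≠ 1) :
    Function.Injective (orb ω s u) := by
  intro a b hab
  have hsub : orb ω s u (a + b) = 1 := by
    rw [orb_add h huu hmul hcomm h3, hab, ← orb_add h huu hmul hcomm h3,
      show b + b = 0 by linear_combination b * h.two, orb_zero]
  have h0 : a + b = 0 := by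
    rcases h.cases (a + b) with e | e | e | e
    · exact e
    · rw [e, orb_one] at hsub; exact absurd hsub hu
    · rw [e, orb_omega h] at hsub; exact absurd (s.map_eq_one_iff.mp hsub) hu
    · rw [e, orb_succ h] at hsub
      exact absurd (s.map_eq_one_iff.mp (s.map_eq_one_iff.mp hsub)) hu
  linear_combination h0 - b * h.two

theorem orb_mem {H : Subgroup T} (hu : u ∈ H) (hs : ∀ x ∈ H, s x ∈ H) (a : F) : orb ω s u a ∈ H := by
  unfold orb
  split_ifs
  exacts [H.one_mem, hu, hs _ hu, hs _ (hs _ hu)]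

end Field

variable {F : Type} [Field F] [Fintype F]

theorem four_exists (hF : Fintype.card F = 4) : ∃ ω : F, Four ω := by
  classical
  have h4 : ∀ a : F, a ^ 4 = a := fun a => by rw [← hF]; exact FiniteField.pow_card a
  obtain ⟨ω, hω⟩ : ∃ ω : F, ω ∉ ({0, 1} : Finset F) := by
    by_contra hn
    push Not at hn
    have := Finset.card_le_card (fun x _ => hn x : (Finset.univ : Finset F) ⊆ {0, 1})
    have h2 : ({0, 1} : Finset F).card ≤ 2 := Finset.card_le_two
    rw [Finset.card_univ, hF] at this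
    omega
  simp only [Finset.mem_insert, Finset.mem_singleton, not_or] at hω
  obtain ⟨h0, h1⟩ := hω
  have htwo : (2 : F) = 0 := by
    have := h4 (-1)
    linear_combination this
  have hsq : ω * ω = ω + 1 := by
    have : ω * (ω - 1) * (ω * ω + ω + 1) = 0 := by linear_combination h4 ω
    rcases mul_eq_zero.mp this with e | e
    · exact absurd e (mul_ne_zero h0 (sub_ne_zero.mpr h1))
    · linear_combination e - (ω + 1) * htwo
  have hne : ω + 1 ≠ 0 := fun e => h1 (by linear_combination e - htwo)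
  have hne1 : ω + 1 ≠ 1 := fun e => h0 (by linear_combination e)
  have hne2 : ω + 1 ≠ ω := fun e => one_ne_zero (α := F) (by linear_combination e)
  refine ⟨ω, h0, h1, hsq, htwo, fun a => ?_⟩
  have : ({0, 1, ω, ω + 1} : Finset F) = Finset.univ := by
    refine Finset.eq_univ_of_card _ ?_
    rw [hF, Finset.card_insert_of_notMem, Finset.card_insert_of_notMem, Finset.card_insert_of_notMem,
      Finset.card_singleton] <;> simp [Ne.symm h0, Ne.symm h1, hne.symm, hne1.symm, hne2.symm]
  have ha : a ∈ ({0, 1, ω, ω + 1} : Finset F) := by rw [this]; exact Finset.mem_univ a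
  simpa using ha

section Main

variable (D : Data T V t r)

theorem Data.class_two (D : Data T V t r) (x y z : T) : z * ⁅x, y⁆ = ⁅x, y⁆ * z :=
  (commutatorElement_eq_one_iff_commute.mp (class_le_two D.pgroup r D.r3 D.fpf x y z)).eq.symm

theorem Data.comm_left (D : Data T V t r) (x y z : T) : ⁅x * y, z⁆ = ⁅x, z⁆ * ⁅y, z⁆ := by
  calc ⁅x * y, z⁆ = x * ⁅y, z⁆ * x⁻¹ * ⁅x, z⁆ := by simp only [commutatorElement_def]; group
    _ = ⁅y, z⁆ * ⁅x, z⁆ := by rw [D.class_two y z x]; group
    _ = _ := (D.class_two y z ⁅x, z⁆).symm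

theorem Data.comm_right (D : Data T V t r) (x y z : T) : ⁅x, y * z⁆ = ⁅x, y⁆ * ⁅x, z⁆ := by
  calc ⁅x, y * z⁆ = ⁅x, y⁆ * (y * ⁅x, z⁆ * y⁻¹) := by simp only [commutatorElement_def]; group
    _ = _ := by rw [D.class_two x z y]; group

theorem Data.r_sq (D : Data T V t r) (x : T) : (r * r : MulAut T) x = r (r x) := rfl

/-- `⁅r x, y⁆ = ⁅x, r y⁆ = r² ⁅x, y⁆`. -/
theorem Data.twist (D : Data T V t r) (x y : T) :
    ⁅r x, y⁆ = r (r ⁅x, y⁆) ∧ ⁅x, r y⁆ = r (r ⁅x, y⁆) := by
  have hself : ∀ z, ⁅z, r z⁆ = 1 := fun z =>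
    commutatorElement_eq_one_iff_commute.mpr (commute_r r D.r3 D.fpf z)
  have key : ∀ x y, ⁅r x, y⁆ = ⁅x, r y⁆ := by
    intro x y
    have h := hself (x * y)
    rw [map_mul, D.comm_left, D.comm_right, D.comm_right, hself, hself, one_mul, mul_one] at h
    rw [← commutatorElement_inv y (r x), eq_inv_of_mul_eq_one_left h]
  have h1 : r ⁅x, r y⁆ = ⁅x, y⁆ := by
    rw [map_commutatorElement, key, D.r3]
  have h2 : ⁅x, r y⁆ = r (r ⁅x, y⁆) := by
    rw [← h1, D.r3]
  exact ⟨(key x y).trans h2, h2⟩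

theorem Data.orbit_props (D : Data T V t r) {e : T} (he : e * e = 1) :
    e * r e = r (r e) ∧ Commute e (r e) := by
  refine ⟨?_, commute_r r D.r3 D.fpf e⟩
  have h := one_add_r_add_sq r D.r3 D.fpf e
  have h' : r (r e) * r (r e) = 1 := by rw [← map_mul, ← map_mul, he, map_one, map_one]
  calc e * r e = e * r e * (r (r e) * r (r e)) := by rw [h', mul_one]
    _ = (e * r e * r (r e)) * r (r e) := by group
    _ = _ := by rw [h, one_mul]

theorem Data.mem_of_r (D : Data T V t r) {x : T} (hx : x ∈ V) : r x ∈ V := by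
  rw [← D.fix, D.comm, (D.fix x).mpr hx]

/-- An involution outside `V` commuting with its image under `t`. -/
theorem Data.elementary (D : Data T V t r) (hF : Fintype.card F = 4) {e : T} (he : e * e = 1)
    (heV : e ∉ V) (hd : ⁅e, t e⁆ = 1) : Nat.card T = 16 ∧ ∀ x : T, x * x = 1 := by
  classical
  obtain ⟨ω, h⟩ := four_exists hF
  obtain ⟨hmul, hcomm⟩ := D.orbit_props he
  have he1 : e ≠ 1 := fun h1 => heV (h1 ▸ V.one_mem)
  have hte : t e * t e = 1 := by rw [← map_mul, he, map_one]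
  have hc : Commute e (t e) := commutatorElement_eq_one_iff_commute.mp hd
  have hbV : e * t e ∈ V := by rw [← D.fix, map_mul, D.t2, hc.eq]
  obtain ⟨v, hv, hv1⟩ := (Subgroup.ne_bot_iff_exists_ne_one (H := V)).mp (fun hb => by
    have := D.cardV; rw [hb, Subgroup.card_bot] at this; omega) |>
      fun ⟨a, ha⟩ => (⟨a.1, a.2, fun hh => ha (Subtype.ext hh)⟩ : ∃ v, v ∈ V ∧ v ≠ 1)
  obtain ⟨hvmul, hvcomm⟩ := D.orbit_props (D.sqV v hv)
  have pV : ∀ c, orb ω r v c ∈ V := fun c => orb_mem hv (fun x hx => D.mem_of_r hx) c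
  have pc : ∀ c g, g * orb ω r v c = orb ω r v c * g := fun c g =>
    Subgroup.mem_center_iff.mp (D.central (pV c)) g
  let Φ : Multiplicative (F × F) →* T :=
    { toFun := fun p => orb ω r e p.toAdd.1 * orb ω r v p.toAdd.2
      map_one' := by simp [orb_zero]
      map_mul' := fun p q => by
        simp only [toAdd_mul, Prod.fst_add, Prod.snd_add]
        rw [orb_add h he hmul hcomm D.r3, orb_add h (D.sqV v hv) hvmul hvcomm D.r3,
          mul_assoc (orb ω r e p.toAdd.1) (orb ω r e q.toAdd.1)]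
        calc orb ω r e p.toAdd.1 * (orb ω r e q.toAdd.1 * (orb ω r v p.toAdd.2 * orb ω r v q.toAdd.2))
            = orb ω r e p.toAdd.1 * (orb ω r e q.toAdd.1 * orb ω r v p.toAdd.2) * orb ω r v q.toAdd.2 := by group
          _ = orb ω r e p.toAdd.1 * (orb ω r v p.toAdd.2 * orb ω r e q.toAdd.1) * orb ω r v q.toAdd.2 := by rw [pc p.toAdd.2 (orb ω r e q.toAdd.1)]
          _ = _ := by group }
  have hΦ : Function.Injective Φ := by
    rw [← MonoidHom.ker_eq_bot_iff, Subgroup.eq_bot_iff_forall]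
    intro p hp
    have hp' : orb ω r e p.toAdd.1 * orb ω r v p.toAdd.2 = 1 := hp
    have hm : orb ω r e p.toAdd.1 ∈ V := by
      rw [eq_inv_of_mul_eq_one_left hp']; exact V.inv_mem (pV _)
    have h0 : p.toAdd.1 = 0 := by
      rcases h.cases p.toAdd.1 with e0 | e0 | e0 | e0
      · exact e0
      · rw [e0, orb_one] at hm; exact absurd hm heV
      · rw [e0, orb_omega h] at hm
        have := D.mem_of_r (D.mem_of_r hm); rw [D.r3] at this; exact absurd this heV
      · rw [e0, orb_succ h] at hm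
        have := D.mem_of_r hm; rw [D.r3] at this; exact absurd this heV
    rw [h0, orb_zero, one_mul] at hp'
    have h1 : p.toAdd.2 = 0 :=
      orb_injective h (D.sqV v hv) hvmul hvcomm D.r3 hv1 (hp'.trans orb_zero.symm)
    exact Multiplicative.toAdd.injective (Prod.ext h0 h1)
  have hsur : ∀ x ∈ V, ∃ c, orb ω r v c = x := by
    intro x hx
    have hbij : Function.Bijective (fun c : F => (⟨_, pV c⟩ : V)) :=
      (Function.Injective.bijective_of_nat_card_le (fun a b hab =>
        orb_injective h (D.sqV v hv) hvmul hvcomm D.r3 hv1 (congrArg Subtype.val hab))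
        (by rw [D.cardV, Nat.card_eq_fintype_card, hF]))
    obtain ⟨c, hc⟩ := hbij.2 ⟨x, hx⟩
    exact ⟨c, congrArg Subtype.val hc⟩
  set B := Φ.range with hB
  have hmemV : ∀ x ∈ V, x ∈ B := fun x hx => by
    obtain ⟨c, rfl⟩ := hsur x hx
    exact ⟨Multiplicative.ofAdd (0, c), by simp [Φ, orb_zero]⟩
  have hcardB : Nat.card B = 16 := by
    rw [hB, ← Nat.card_congr (MonoidHom.ofInjective hΦ).toEquiv,
      Nat.card_congr Multiplicative.toAdd, Nat.card_prod, Nat.card_eq_fintype_card, hF]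
  have hBsq : ∀ b ∈ B, b * b = 1 := by
    rintro _ ⟨p, rfl⟩
    rw [← map_mul, show p * p = 1 from Multiplicative.toAdd.injective (by
      simp only [toAdd_mul, toAdd_one]
      refine Prod.ext ?_ ?_ <;> simp only [Prod.fst_add, Prod.snd_add, Prod.fst_zero, Prod.snd_zero]
      · linear_combination p.toAdd.1 * h.two
      · linear_combination p.toAdd.2 * h.two), map_one]
  have hBt : ∀ b ∈ B, t b ∈ B := by
    rintro _ ⟨p, rfl⟩
    show t (orb ω r e p.toAdd.1 * orb ω r v p.toAdd.2) ∈ B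
    rw [map_mul, (D.fix _).mpr (pV _), orb_map t D.comm]
    refine B.mul_mem (orb_mem ?_ ?_ _) (hmemV _ (pV _))
    · have : t e = e * (e * t e) := by rw [← mul_assoc, he, one_mul]
      rw [this]
      exact B.mul_mem ⟨Multiplicative.ofAdd (1, 0), by simp [Φ, orb_zero, orb_one]⟩ (hmemV _ hbV)
    · rintro _ ⟨q, rfl⟩
      refine ⟨Multiplicative.ofAdd (ω * q.toAdd.1, ω * q.toAdd.2), ?_⟩
      show orb ω r e (ω * q.toAdd.1) * orb ω r v (ω * q.toAdd.2) = r (_ * _)
      rw [orb_omega_mul h D.r3, orb_omega_mul h D.r3, map_mul]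
  have htop := D.eq_top_of_count B hBt (V : Set T) (fun w hw htw => by
    rw [SetLike.mem_coe, ← D.fix, htw]; exact inv_eq_of_mul_eq_one_right (hBsq w hw)) (by
    rw [show Nat.card (V : Set T) = 4 from D.cardV, hcardB])
  refine ⟨?_, fun x => hBsq x (htop ▸ Subgroup.mem_top x)⟩
  rw [← hcardB, htop, Subgroup.card_top]

end Main

/-! ### The nonabelian case -/

section Heis

variable [DecidableEq F]

theorem upper_entries (A : CfsgLib.PSLn.upper F 3) :
    A.1.1 0 0 = 1 ∧ A.1.1 1 1 = 1 ∧ A.1.1 2 2 = 1 ∧ A.1.1 1 0 = 0 ∧ A.1.1 2 0 = 0 ∧ A.1.1 2 1 = 0 := by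
  refine ⟨?_, ?_, ?_, ?_, ?_, ?_⟩
  all_goals
    have h := fun i j hij => A.2 i j hij
  · simpa using h 0 0 le_rfl
  · simpa using h 1 1 le_rfl
  · simpa using h 2 2 le_rfl
  · simpa using h 1 0 (by decide)
  · simpa using h 2 0 (by decide)
  · simpa using h 2 1 (by decide)

theorem upper_mul_entries (A B : CfsgLib.PSLn.upper F 3) :
    (A * B).1.1 0 1 = A.1.1 0 1 + B.1.1 0 1 ∧ (A * B).1.1 1 2 = A.1.1 1 2 + B.1.1 1 2 ∧
      (A * B).1.1 0 2 = A.1.1 0 2 + B.1.1 0 2 + A.1.1 0 1 * B.1.1 1 2 := by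
  obtain ⟨a00, a11, a22, a10, a20, a21⟩ := upper_entries A
  obtain ⟨b00, b11, b22, b10, b20, b21⟩ := upper_entries B
  refine ⟨?_, ?_, ?_⟩
  all_goals
    show (A.1.1 * B.1.1) _ _ = _
    rw [Matrix.mul_apply, Fin.sum_univ_three]
    simp only [a00, a11, a22, a10, a20, a21, b00, b11, b22, b10, b20, b21]
    ring

theorem upper_ext (A B : CfsgLib.PSLn.upper F 3) (h01 : A.1.1 0 1 = B.1.1 0 1)
    (h12 : A.1.1 1 2 = B.1.1 1 2) (h02 : A.1.1 0 2 = B.1.1 0 2) : A = B := by
  obtain ⟨a00, a11, a22, a10, a20, a21⟩ := upper_entries A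
  obtain ⟨b00, b11, b22, b10, b20, b21⟩ := upper_entries B
  apply Subtype.ext; apply Subtype.ext
  ext i j
  fin_cases i <;> fin_cases j <;> simp_all

/-- An involution outside `V` not commuting with its image under `t`. -/
theorem Data.heisenberg (D : Data T V t r) (hF : Fintype.card F = 4) {e : T} (he : e * e = 1)
    (hd : ⁅e, t e⁆ ≠ 1) : Nonempty (CfsgLib.PSLn.upper F 3 ≃* T) := by
  classical
  obtain ⟨ω, h⟩ := four_exists hF
  obtain ⟨hmul, hcomm⟩ := D.orbit_props he
  set e' := t e with he'def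
  have he' : e' * e' = 1 := by rw [he'def, ← map_mul, he, map_one]
  obtain ⟨hmul', hcomm'⟩ := D.orbit_props he'
  set d := ⁅e, e'⁆ with hddef
  have hdd : d * d = 1 := by
    rw [hddef, ← D.comm_left, he]; simp
  have hdV : d ∈ V := by
    rw [← D.fix, hddef, map_commutatorElement, ← he'def, he'def, D.t2, ← commutatorElement_inv,
      ← he'def, ← hddef]
    exact inv_eq_of_mul_eq_one_right hdd
  obtain ⟨hdmul, hdcomm⟩ := D.orbit_props hdd
  set s : MulAut T := r * r with hs
  have hs_app : ∀ x, s x = r (r x) := fun x => rfl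
  have hs3 : ∀ x, s (s (s x)) = x := fun x => by simp only [hs_app, D.r3]
  have hssd : s (s d) = r d := by simp only [hs_app, D.r3]
  have hsmul : d * s d = s (s d) := by
    rw [hssd, hs_app, ← hdmul, ← mul_assoc, hdd, one_mul]
  have hscomm : Commute d (s d) := by
    rw [hs_app, ← hdmul]; exact (Commute.refl d).mul_right hdcomm
  let p₀ := orb ω r e
  let p₁ := orb ω r e'
  let pd := orb ω s d
  have pdV : ∀ c, pd c ∈ V := fun c => orb_mem hdV (fun x hx => by rw [hs_app]; exact D.mem_of_r (D.mem_of_r hx)) c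
  have pdc : ∀ c g, g * pd c = pd c * g := fun c g =>
    Subgroup.mem_center_iff.mp (D.central (pdV c)) g
  have add0 : ∀ a b, p₀ (a + b) = p₀ a * p₀ b := orb_add h he hmul hcomm D.r3
  have add1 : ∀ a b, p₁ (a + b) = p₁ a * p₁ b := orb_add h he' hmul' hcomm' D.r3
  have addd : ∀ a b, pd (a + b) = pd a * pd b := orb_add h hdd hsmul hscomm hs3
  have key : ∀ a b, ⁅p₀ a, p₁ b⁆ = pd (a * b) := by
    have step0 : ∀ a b, ⁅p₀ a, p₁ b⁆ = pd (a * b) → ⁅p₀ (ω * a), p₁ b⁆ = pd (ω * a * b) := by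
      intro a b hab
      rw [mul_assoc]
      simp only [p₀, p₁, pd] at hab ⊢
      rw [orb_omega_mul h D.r3, orb_omega_mul h hs3, (D.twist _ _).1, hab, hs_app]
    have step1 : ∀ a b, ⁅p₀ a, p₁ b⁆ = pd (a * b) → ⁅p₀ a, p₁ (ω * b)⁆ = pd (a * (ω * b)) := by
      intro a b hab
      rw [mul_left_comm]
      simp only [p₀, p₁, pd] at hab ⊢
      rw [orb_omega_mul h D.r3, orb_omega_mul h hs3, (D.twist _ _).2, hab, hs_app]
    have base : ∀ b, ⁅p₀ 1, p₁ b⁆ = pd (1 * b) := by
      intro b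
      have b1 : ⁅p₀ 1, p₁ 1⁆ = pd (1 * 1) := by simp [p₀, p₁, pd, orb_one, hddef]
      rcases h.cases b with rfl | rfl | rfl | rfl
      · simp [p₀, p₁, pd, orb_zero]
      · exact b1
      · simpa using step1 1 1 b1
      · rw [← h.sq]; simpa using step1 1 ω (by simpa using step1 1 1 b1)
    intro a b
    rcases h.cases a with rfl | rfl | rfl | rfl
    · simp [p₀, p₁, pd, orb_zero]
    · exact base b
    · simpa using step0 1 b (base b)
    · rw [← h.sq]; simpa [mul_assoc] using step0 ω b (by simpa using step0 1 b (base b))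
  have swap : ∀ a b, p₀ a * p₁ b = pd (a * b) * p₁ b * p₀ a := fun a b => by
    rw [← key, commutatorElement_def]; group
  let Φ : CfsgLib.PSLn.upper F 3 →* T :=
    { toFun := fun A => pd (A.1.1 0 2) * p₁ (A.1.1 1 2) * p₀ (A.1.1 0 1)
      map_one' := by simp [pd, p₀, p₁, orb_zero]
      map_mul' := fun A B => by
        obtain ⟨m1, m2, m3⟩ := upper_mul_entries A B
        rw [m1, m2, m3, add0, add1, addd, addd]
        set a := A.1.1 0 1
        set b := A.1.1 1 2
        set c := A.1.1 0 2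
        set a' := B.1.1 0 1
        set b' := B.1.1 1 2
        set c' := B.1.1 0 2
        calc pd c * pd c' * pd (a * b') * (p₁ b * p₁ b') * (p₀ a * p₀ a')
            = pd c * pd c' * (pd (a * b') * p₁ b) * (p₁ b' * p₀ a) * p₀ a' := by group
          _ = pd c * pd c' * p₁ b * (pd (a * b') * p₁ b' * p₀ a) * p₀ a' := by
              rw [← pdc (a * b') (p₁ b)]; group
          _ = pd c * pd c' * p₁ b * (p₀ a * p₁ b') * p₀ a' := by rw [← swap]
          _ = pd c * (pd c' * (p₁ b * p₀ a)) * p₁ b' * p₀ a' := by group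
          _ = pd c * (p₁ b * p₀ a * pd c') * p₁ b' * p₀ a' := by rw [← pdc c' (p₁ b * p₀ a)]
          _ = _ := by group }
  have hΦapp : ∀ A, Φ A = pd (A.1.1 0 2) * p₁ (A.1.1 1 2) * p₀ (A.1.1 0 1) := fun A => rfl
  have pdinj : Function.Injective pd := orb_injective h hdd hsmul hscomm hs3 hd
  have hΦ : Function.Injective Φ := by
    rw [← MonoidHom.ker_eq_bot_iff, Subgroup.eq_bot_iff_forall]
    intro A hA
    rw [MonoidHom.mem_ker, hΦapp] at hA
    have cpd : ∀ (c : F) (g : T), ⁅pd c, g⁆ = 1 := fun c g =>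
      commutatorElement_eq_one_iff_commute.mpr (pdc c g).symm
    have cpd' : ∀ (c : F) (g : T), ⁅g, pd c⁆ = 1 := fun c g =>
      commutatorElement_eq_one_iff_commute.mpr (pdc c g)
    have c11 : ∀ a b, ⁅p₁ a, p₁ b⁆ = 1 := fun a b => commutatorElement_eq_one_iff_commute.mpr
      (show p₁ a * p₁ b = p₁ b * p₁ a by rw [← add1, ← add1, add_comm])
    have c00 : ∀ a b, ⁅p₀ a, p₀ b⁆ = 1 := fun a b => commutatorElement_eq_one_iff_commute.mpr
      (show p₀ a * p₀ b = p₀ b * p₀ a by rw [← add0, ← add0, add_comm])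
    have ha : A.1.1 0 1 = 0 := by
      refine pdinj ?_
      have := congrArg (fun x => ⁅x, p₁ 1⁆) hA
      simp only [D.comm_left, cpd, c11, key, one_mul, mul_one, commutatorElement_one_left] at this
      rw [this]; simp [pd, orb_zero]
    have hb : A.1.1 1 2 = 0 := by
      refine pdinj ?_
      have := congrArg (fun x => ⁅p₀ 1, x⁆) hA
      simp only [D.comm_right, cpd', c00, key, one_mul, mul_one, commutatorElement_one_right] at this
      rw [this]; simp [pd, orb_zero]
    have hc : A.1.1 0 2 = 0 := by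
      refine pdinj ?_
      rw [ha, hb] at hA
      simpa [p₀, p₁, pd, orb_zero] using hA
    exact upper_ext A 1 (by simpa using ha) (by simpa using hb) (by simpa using hc)
  have hcardU : Nat.card (CfsgLib.PSLn.upper F 3) = 64 := by
    rw [CfsgLib.PSLn.card_upper, Fin.prod_univ_three, hF]; norm_num
  set B := Φ.range with hB
  have hcardB : Nat.card B = 64 := by
    rw [hB, ← Nat.card_congr (MonoidHom.ofInjective hΦ).toEquiv, hcardU]
  let mk : F → F → F → CfsgLib.PSLn.upper F 3 := fun a b c =>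
    ⟨⟨!![1, a, c; 0, 1, b; 0, 0, 1], by simp [Matrix.det_fin_three]⟩, by
      intro i j hij
      fin_cases i <;> fin_cases j <;> first | (exact absurd hij (by decide)) | simp⟩
  have hmk : ∀ a b c, Φ (mk a b c) = pd c * p₁ b * p₀ a := fun a b c => by
    rw [hΦapp]; simp [mk]
  have htd : ∀ c, t (pd c) = pd c := fun c => (D.fix _).mpr (pdV c)
  have ht0 : ∀ a, t (p₀ a) = p₁ a := fun a => orb_map t D.comm a
  have ht1 : ∀ a, t (p₁ a) = p₀ a := fun a => by rw [← ht0, D.t2]
  have himg : ∀ A, t (Φ A) = Φ (mk (A.1.1 1 2) (A.1.1 0 1)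
      (A.1.1 0 2 + A.1.1 1 2 * A.1.1 0 1)) := fun A => by
    rw [hmk, hΦapp, map_mul, map_mul, htd, ht1, ht0, mul_assoc, swap, addd]
    group
  have hBt : ∀ b ∈ B, t b ∈ B := by
    rintro _ ⟨A, rfl⟩
    exact ⟨_, (himg A).symm⟩
  let W : Set T := Set.range (fun p : F × F => Φ (mk p.1 p.1 p.2))
  have htop := D.eq_top_of_count B hBt W (fun w hw htw => by
    obtain ⟨A, rfl⟩ := hw
    refine ⟨(A.1.1 0 1, A.1.1 0 2), congrArg Φ ?_⟩
    have h1 : mk (A.1.1 1 2) (A.1.1 0 1) (A.1.1 0 2 + A.1.1 1 2 * A.1.1 0 1) * A = 1 := by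
      apply hΦ; rw [map_mul, ← himg, htw, inv_mul_cancel, map_one]
    have h2 := (upper_mul_entries (mk (A.1.1 1 2) (A.1.1 0 1) (A.1.1 0 2 + A.1.1 1 2 * A.1.1 0 1)) A).1
    rw [h1] at h2
    simp [mk] at h2
    have hab : A.1.1 1 2 = A.1.1 0 1 := by linear_combination -h2 - A.1.1 0 1 * h.two
    exact upper_ext _ A (by simp [mk]) (by simp [mk, hab]) (by simp [mk]))
    (by
      have : Nat.card W ≤ 16 := by
        refine (Finite.card_range_le _).trans (le_of_eq ?_)
        rw [Nat.card_prod, Nat.card_eq_fintype_card, hF]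
      omega)
  exact ⟨MulEquiv.ofBijective Φ ⟨hΦ, MonoidHom.range_eq_top.mp htop⟩⟩

end Heis

end CfsgLib.FpfTwo
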