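import Cfsg.Agent.Lib.FpfTwo.Main

/-!
Nonabelian groups of order `64` with a fixed-point-free automorphism of order `3`, and with a further
automorphism inverting it.
-/

set_option autoImplicit false
set_option linter.unusedSectionVars false

universe u

namespace CfsgLib.FpfTwo

open scoped commutatorElement
open Matrix

variable {T : Type u} [Group T] [Finite T]

/-- Class two, as central commutators. -/
theorem fpf_class_two (h : IsPGroup 2 T) {r : MulAut T} (h3 : ∀ x, r (r (r x)) = x) (hf : ∀ x, r x = x → x = 1)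
    (x y g : T) : g * ⁅x, y⁆ = ⁅x, y⁆ * g :=
  (commutatorElement_eq_one_iff_commute.mp (class_le_two h r h3 hf x y g)).eq.symm

theorem comm_left_of_central (hc : ∀ x y g : T, g * ⁅x, y⁆ = ⁅x, y⁆ * g) (x y z : T) :
    ⁅x * y, z⁆ = ⁅x, z⁆ * ⁅y, z⁆ := by
  calc ⁅x * y, z⁆ = x * ⁅y, z⁆ * x⁻¹ * ⁅x, z⁆ := by simp only [commutatorElement_def]; group
    _ = ⁅y, z⁆ * ⁅x, z⁆ := by rw [hc y z x]; group
    _ = _ := (hc y z ⁅x, z⁆).symm

theorem comm_right_of_central (hc : ∀ x y g : T, g * ⁅x, y⁆ = ⁅x, y⁆ * g) (x y z : T) :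
    ⁅x, y * z⁆ = ⁅x, y⁆ * ⁅x, z⁆ := by
  calc ⁅x, y * z⁆ = ⁅x, y⁆ * (y * ⁅x, z⁆ * y⁻¹) := by simp only [commutatorElement_def]; group
    _ = _ := by rw [hc x z y]; group

theorem fpf_twist (h : IsPGroup 2 T) {r : MulAut T} (h3 : ∀ x, r (r (r x)) = x) (hf : ∀ x, r x = x → x = 1)
    (x y : T) : ⁅r x, y⁆ = r (r ⁅x, y⁆) ∧ ⁅x, r y⁆ = r (r ⁅x, y⁆) := by
  have hc := fpf_class_two h h3 hf
  have hself : ∀ z, ⁅z, r z⁆ = 1 := fun z => commutatorElement_eq_one_iff_commute.mpr (commute_r r h3 hf z)
  have key : ∀ x y, ⁅r x, y⁆ = ⁅x, r y⁆ := by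
    intro x y
    have h := hself (x * y)
    rw [map_mul, comm_left_of_central hc, comm_right_of_central hc, comm_right_of_central hc, hself, hself,
      one_mul, mul_one] at h
    rw [← commutatorElement_inv y (r x), eq_inv_of_mul_eq_one_left h]
  have h1 : r ⁅x, r y⁆ = ⁅x, y⁆ := by rw [map_commutatorElement, key, h3]
  have h2 : ⁅x, r y⁆ = r (r ⁅x, y⁆) := by rw [← h1, h3]
  exact ⟨(key x y).trans h2, h2⟩

theorem fpf_orbit {r : MulAut T} (h3 : ∀ x, r (r (r x)) = x) (hf : ∀ x, r x = x → x = 1) {e : T} (he : e * e = 1) :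
    e * r e = r (r e) ∧ Commute e (r e) := by
  refine ⟨?_, commute_r r h3 hf e⟩
  have h := one_add_r_add_sq r h3 hf e
  have h' : r (r e) * r (r e) = 1 := by rw [← map_mul, ← map_mul, he, map_one, map_one]
  calc e * r e = e * r e * (r (r e) * r (r e)) := by rw [h', mul_one]
    _ = (e * r e * r (r e)) * r (r e) := by group
    _ = _ := by rw [h, one_mul]

section Heis

variable {F : Type} [Field F] [Fintype F]

/-- Two involutions with nontrivial commutator generate the unitriangular group over `F₄`. -/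
theorem heisenberg_of_pair (hF : Fintype.card F = 4) (hT : Nat.card T = 64) (h : IsPGroup 2 T) {r : MulAut T}
    (h3 : ∀ x, r (r (r x)) = x) (hf : ∀ x, r x = x → x = 1) {e e' : T} (he : e * e = 1) (he' : e' * e' = 1)
    (hd : ⁅e, e'⁆ ≠ 1) : Nonempty (CfsgLib.PSLn.upper F 3 ≃* T) := by
  classical
  obtain ⟨ω, hω⟩ := four_exists hF
  obtain ⟨hmul, hcomm⟩ := fpf_orbit h3 hf he
  obtain ⟨hmul', hcomm'⟩ := fpf_orbit h3 hf he'
  have hc := fpf_class_two h h3 hf
  set d := ⁅e, e'⁆ with hddef
  have hdd : d * d = 1 := by rw [hddef, ← comm_left_of_central hc, he]; simp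
  obtain ⟨hdmul, hdcomm⟩ := fpf_orbit h3 hf hdd
  set s : MulAut T := r * r with hs
  have hs_app : ∀ x, s x = r (r x) := fun x => rfl
  have hs3 : ∀ x, s (s (s x)) = x := fun x => by simp only [hs_app, h3]
  have hssd : s (s d) = r d := by simp only [hs_app, h3]
  have hsmul : d * s d = s (s d) := by rw [hssd, hs_app, ← hdmul, ← mul_assoc, hdd, one_mul]
  have hscomm : Commute d (s d) := by rw [hs_app, ← hdmul]; exact (Commute.refl d).mul_right hdcomm
  let p₀ := orb ω r e
  let p₁ := orb ω r e'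
  let pd := orb ω s d
  have hdc : d ∈ Subgroup.center T := Subgroup.mem_center_iff.mpr fun g => hc e e' g
  have pdc : ∀ c g, g * pd c = pd c * g := fun c g =>
    Subgroup.mem_center_iff.mp (orb_mem hdc (fun x hx =>
      Subgroup.mem_center_iff.mpr fun g => by
        obtain ⟨g', rfl⟩ := s.surjective g
        rw [← map_mul, Subgroup.mem_center_iff.mp hx g', map_mul]) c) g
  have add0 : ∀ a b, p₀ (a + b) = p₀ a * p₀ b := orb_add hω he hmul hcomm h3
  have add1 : ∀ a b, p₁ (a + b) = p₁ a * p₁ b := orb_add hω he' hmul' hcomm' h3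
  have addd : ∀ a b, pd (a + b) = pd a * pd b := orb_add hω hdd hsmul hscomm hs3
  have key : ∀ a b, ⁅p₀ a, p₁ b⁆ = pd (a * b) := by
    have step0 : ∀ a b, ⁅p₀ a, p₁ b⁆ = pd (a * b) → ⁅p₀ (ω * a), p₁ b⁆ = pd (ω * a * b) := by
      intro a b hab
      rw [mul_assoc]
      simp only [p₀, p₁, pd] at hab ⊢
      rw [orb_omega_mul hω h3, orb_omega_mul hω hs3, (fpf_twist h h3 hf _ _).1, hab, hs_app]
    have step1 : ∀ a b, ⁅p₀ a, p₁ b⁆ = pd (a * b) → ⁅p₀ a, p₁ (ω * b)⁆ = pd (a * (ω * b)) := by
      intro a b hab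
      rw [mul_left_comm]
      simp only [p₀, p₁, pd] at hab ⊢
      rw [orb_omega_mul hω h3, orb_omega_mul hω hs3, (fpf_twist h h3 hf _ _).2, hab, hs_app]
    have base : ∀ b, ⁅p₀ 1, p₁ b⁆ = pd (1 * b) := by
      intro b
      have b1 : ⁅p₀ 1, p₁ 1⁆ = pd (1 * 1) := by simp [p₀, p₁, pd, orb_one, hddef]
      rcases hω.cases b with rfl | rfl | rfl | rfl
      · simp [p₀, p₁, pd, orb_zero]
      · exact b1
      · simpa using step1 1 1 b1
      · rw [← hω.sq]; simpa using step1 1 ω (by simpa using step1 1 1 b1)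
    intro a b
    rcases hω.cases a with rfl | rfl | rfl | rfl
    · simp [p₀, p₁, pd, orb_zero]
    · exact base b
    · simpa using step0 1 b (base b)
    · rw [← hω.sq]; simpa [mul_assoc] using step0 ω b (by simpa using step0 1 b (base b))
  have swap : ∀ a b, p₀ a * p₁ b = pd (a * b) * p₁ b * p₀ a := fun a b => by
    rw [← key, commutatorElement_def]; group
  let Φ : CfsgLib.PSLn.upper F 3 →* T :=
    { toFun := fun A => pd (A.1.1 0 2) * p₁ (A.1.1 1 2) * p₀ (A.1.1 0 1)
      map_one' := by simp [pd, p₀, p₁, orb_zero]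
      map_mul' := fun A B => by
        obtain ⟨m1, m2, m3⟩ := upper_mul_entries A B
        rw [m1, m2, m3, add0, add1, addd, addd]
        set a := A.1.1 0 1
        set b := A.1.1 1 2
        set c := A.1.1 0 2
        set a' := B.1.1 0 1
        set b' := B.1.1 1 2
        set c' := B.1.1 0 2
        calc pd c * pd c' * pd (a * b') * (p₁ b * p₁ b') * (p₀ a * p₀ a')
            = pd c * pd c' * (pd (a * b') * p₁ b) * (p₁ b' * p₀ a) * p₀ a' := by group
          _ = pd c * pd c' * p₁ b * (pd (a * b') * p₁ b' * p₀ a) * p₀ a' := by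
              rw [← pdc (a * b') (p₁ b)]; group
          _ = pd c * pd c' * p₁ b * (p₀ a * p₁ b') * p₀ a' := by rw [← swap]
          _ = pd c * (pd c' * (p₁ b * p₀ a)) * p₁ b' * p₀ a' := by group
          _ = pd c * (p₁ b * p₀ a * pd c') * p₁ b' * p₀ a' := by rw [← pdc c' (p₁ b * p₀ a)]
          _ = _ := by group }
  have hΦapp : ∀ A, Φ A = pd (A.1.1 0 2) * p₁ (A.1.1 1 2) * p₀ (A.1.1 0 1) := fun A => rfl
  have pdinj : Function.Injective pd := orb_injective hω hdd hsmul hscomm hs3 hd
  have hΦ : Function.Injective Φ := by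
    rw [← MonoidHom.ker_eq_bot_iff, Subgroup.eq_bot_iff_forall]
    intro A hA
    rw [MonoidHom.mem_ker, hΦapp] at hA
    have cpd : ∀ (c : F) (g : T), ⁅pd c, g⁆ = 1 := fun c g =>
      commutatorElement_eq_one_iff_commute.mpr (pdc c g).symm
    have cpd' : ∀ (c : F) (g : T), ⁅g, pd c⁆ = 1 := fun c g =>
      commutatorElement_eq_one_iff_commute.mpr (pdc c g)
    have c11 : ∀ a b, ⁅p₁ a, p₁ b⁆ = 1 := fun a b => commutatorElement_eq_one_iff_commute.mpr
      (show p₁ a * p₁ b = p₁ b * p₁ a by rw [← add1, ← add1, add_comm])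
    have c00 : ∀ a b, ⁅p₀ a, p₀ b⁆ = 1 := fun a b => commutatorElement_eq_one_iff_commute.mpr
      (show p₀ a * p₀ b = p₀ b * p₀ a by rw [← add0, ← add0, add_comm])
    have ha : A.1.1 0 1 = 0 := by
      refine pdinj ?_
      have := congrArg (fun x => ⁅x, p₁ 1⁆) hA
      simp only [comm_left_of_central hc, cpd, c11, key, one_mul, mul_one, commutatorElement_one_left] at this
      rw [this]; simp [pd, orb_zero]
    have hb : A.1.1 1 2 = 0 := by
      refine pdinj ?_
      have := congrArg (fun x => ⁅p₀ 1, x⁆) hA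
      simp only [comm_right_of_central hc, cpd', c00, key, one_mul, mul_one, commutatorElement_one_right] at this
      rw [this]; simp [pd, orb_zero]
    have hcc : A.1.1 0 2 = 0 := by
      refine pdinj ?_
      rw [ha, hb] at hA
      simpa [p₀, p₁, pd, orb_zero] using hA
    exact upper_ext A 1 (by simpa using ha) (by simpa using hb) (by simpa using hcc)
  have hcardU : Nat.card (CfsgLib.PSLn.upper F 3) = 64 := by
    rw [CfsgLib.PSLn.card_upper, Fin.prod_univ_three, hF]; norm_num
  exact ⟨MulEquiv.ofBijective Φ (hΦ.bijective_of_nat_card_le (by rw [hT, hcardU]))⟩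

end Heis

/-- Basic structure. -/
theorem sixtyFour_basic (hT : Nat.card T = 64) (hna : ∃ x y : T, x * y ≠ y * x) {r : MulAut T}
    (h3 : ∀ x, r (r (r x)) = x) (hf : ∀ x, r x = x → x = 1) :
    IsPGroup 2 T ∧ Nat.card (Subgroup.center T) = 4 ∧ (∀ z ∈ Subgroup.center T, z * z = 1) ∧
      (∀ x : T, x * x ∈ Subgroup.center T) ∧ (∀ z ∈ Subgroup.center T, r z ∈ Subgroup.center T) := by
  classical
  haveI : Fact (Nat.Prime 2) := ⟨Nat.prime_two⟩
  haveI : Fact (Nat.Prime 3) := ⟨Nat.prime_three⟩
  have hp : IsPGroup 2 T := IsPGroup.of_card (n := 6) (by rw [hT]; norm_num)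
  have hc := fpf_class_two hp h3 hf
  have hinv : ∀ z ∈ Subgroup.center T, r z ∈ Subgroup.center T := fun z hz =>
    Subgroup.mem_center_iff.mpr fun g => by
      obtain ⟨g', rfl⟩ := r.surjective g
      rw [← map_mul, Subgroup.mem_center_iff.mp hz g', map_mul]
  -- invariant subgroups have order `1 mod 3`
  have hmod : ∀ H : Subgroup T, (∀ a ∈ H, r a ∈ H) → Nat.card H % 3 = 1 := by
    intro H hH
    haveI := Fintype.ofFinite H
    let g : H → H := fun a => ⟨r a, hH a a.2⟩
    have hg : ∀ a, g (g (g a)) = a := fun a => Subtype.ext (h3 _)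
    let σ : Equiv.Perm H := ⟨g, fun a => g (g a), fun a => hg a, fun a => hg a⟩
    have hσ : σ ^ 3 ^ 1 = 1 := by
      ext1 a
      rw [pow_one, Equiv.Perm.coe_pow, Equiv.Perm.one_apply]
      exact hg a
    have h := Equiv.Perm.card_compl_support_modEq hσ
    have e : σ.supportᶜ = {1} := by
      ext a
      simp only [Finset.mem_compl, Equiv.Perm.mem_support, not_not, Finset.mem_singleton]
      exact ⟨fun ha => Subtype.ext (hf _ (congrArg Subtype.val ha)), fun ha => by
        subst ha; exact Subtype.ext (map_one r)⟩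
    rw [e, Finset.card_singleton, ← Nat.card_eq_fintype_card] at h
    exact h.symm
  set K := Subgroup.center T with hK
  have hnab : K ≠ ⊤ := fun h => by
    obtain ⟨x, y, hxy⟩ := hna
    exact hxy (Subgroup.mem_center_iff.mp (by rw [h]; exact Subgroup.mem_top y : y ∈ K) x)
  haveI : Nontrivial T := Finite.one_lt_card_iff_nontrivial.mp (by omega)
  haveI : Nontrivial K := hp.center_nontrivial
  have hK1 : 1 < Nat.card K := Finite.one_lt_card
  have hKdvd : Nat.card K ∣ 2 ^ 6 := by
    have := Subgroup.card_subgroup_dvd_card K; rwa [hT] at this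
  obtain ⟨j, hj, hKj⟩ := (Nat.dvd_prime_pow Nat.prime_two).mp hKdvd
  have hKmod := hmod K hinv
  have hKtop : Nat.card K ≠ 64 := fun h => hnab (Subgroup.eq_top_of_card_eq K (by rw [h, hT]))
  have hK16 : Nat.card K ≠ 16 := by
    intro h16
    obtain ⟨x, hx⟩ : ∃ x, x ∉ K := by
      by_contra hn; push Not at hn
      exact hnab (top_le_iff.mp fun x _ => hn x)
    let S := K ⊔ Subgroup.closure {x, r x}
    have hsc : ∀ z ∈ S, ⁅x, z⁆ = 1 := by
      intro z hz
      have : S ≤ Subgroup.centralizer {x} := by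
        refine sup_le (fun z hz => ?_) ((Subgroup.closure_le _).mpr fun z hz => ?_)
        · exact Subgroup.mem_centralizer_singleton_iff.mpr (Subgroup.mem_center_iff.mp hz x).symm
        · rcases hz with rfl | rfl
          · exact Subgroup.mem_centralizer_singleton_iff.mpr rfl
          · exact Subgroup.mem_centralizer_singleton_iff.mpr (commute_r r h3 hf x).symm.eq
      exact commutatorElement_eq_one_iff_commute.mpr (Subgroup.mem_centralizer_singleton_iff.mp (this hz)).symm
    have hK1' : K.index = 4 := by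
      have := K.card_mul_index; rw [hT, h16] at this; omega
    have hStop : S = ⊤ := by
      by_contra hne
      have hlt : K < S := lt_of_le_of_ne le_sup_left fun he => hx (by
        rw [he]; exact Subgroup.mem_sup_right (Subgroup.subset_closure (Set.mem_insert x _)))
      have hinvS : ∀ a ∈ S, r a ∈ S := by
        intro a ha
        have : S ≤ S.comap r.toMonoidHom := by
          refine sup_le (fun z hz => Subgroup.mem_sup_left (hinv z hz)) ((Subgroup.closure_le _).mpr fun z hz => ?_)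
          rcases hz with rfl | rfl
          · exact Subgroup.mem_sup_right (Subgroup.subset_closure (Set.mem_insert_of_mem _ rfl))
          · show r (r x) ∈ S
            have h1 := one_add_r_add_sq r h3 hf x
            rw [eq_inv_of_mul_eq_one_right h1]
            exact S.inv_mem (S.mul_mem (Subgroup.mem_sup_right (Subgroup.subset_closure (Set.mem_insert x _)))
              (Subgroup.mem_sup_right (Subgroup.subset_closure (Set.mem_insert_of_mem _ rfl))))
        exact this ha
      have h1 := Subgroup.card_subgroup_dvd_card S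
      have h2 := Subgroup.card_dvd_of_le hlt.le
      have h3' := hmod S hinvS
      have h4 : Nat.card K < Nat.card S := lt_of_le_of_ne (Nat.le_of_dvd Nat.card_pos h2)
        fun he => hlt.ne (Subgroup.eq_of_le_of_card_ge hlt.le he.ge)
      have h5 : Nat.card S ≠ 64 := fun h => hne (Subgroup.eq_top_of_card_eq S (by rw [h, hT]))
      rw [hT] at h1
      have : Nat.card S ∣ 2 ^ 6 := h1
      obtain ⟨i, hi, hSi⟩ := (Nat.dvd_prime_pow Nat.prime_two).mp this
      rw [hSi] at h3' h4 h5
      interval_cases i <;> simp_all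
    refine hx (Subgroup.mem_center_iff.mpr fun g => ?_)
    exact (commutatorElement_eq_one_iff_commute.mp (hsc g (hStop ▸ Subgroup.mem_top g))).eq.symm
  have hK4 : Nat.card K = 4 := by
    rw [hKj] at hKmod hK1 hKtop hK16 ⊢
    interval_cases j <;> simp_all
  have hKsq : ∀ z ∈ K, z * z = 1 := by
    intro z hz
    by_contra hne
    haveI : IsMulCommutative K := ⟨⟨fun a b => Subtype.ext (Subgroup.mem_center_iff.mp b.2 a)⟩⟩
    have h4 : z ^ 4 = 1 := by
      have := congrArg Subtype.val (pow_card_eq_one' (x := (⟨z, hz⟩ : K)))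
      rw [hK4] at this
      exact this
    have hzz : Subgroup.zpowers (z * z) ≠ ⊥ := fun h => hne (Subgroup.zpowers_eq_bot.mp h)
    -- `z * z` is the only involution of `K`, so is fixed
    have hord : orderOf z = 4 := by
      have := orderOf_eq_prime_pow (p := 2) (n := 1) (x := z) (by rw [pow_one, pow_two]; exact hne)
        (by simpa using h4)
      simpa using this
    have hgen : Subgroup.zpowers z = K := Subgroup.eq_of_le_of_card_ge (Subgroup.zpowers_le.mpr hz) (by
      rw [Nat.card_zpowers, hord, hK4])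
    have hrz : r z ∈ Subgroup.zpowers z := hgen ▸ hinv z hz
    rw [mem_zpowers_iff_mem_range_orderOf, Finset.mem_image] at hrz
    obtain ⟨i, hi, hzi⟩ := hrz
    rw [Finset.mem_range, hord] at hi
    refine hne (hf (z * z) ?_)
    rw [map_mul, ← hzi, ← pow_add, ← pow_two]
    interval_cases i
    · exfalso
      rw [pow_zero] at hzi
      exact hne (by rw [r.map_eq_one_iff.mp hzi.symm, one_mul])
    · rfl
    · exfalso
      have := congrArg (fun w => w * w) hzi
      simp only [← pow_add] at this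
      rw [h4, ← map_mul] at this
      exact hne (r.map_eq_one_iff.mp this.symm)
    · rw [show 3 + 3 = 4 + 2 from rfl, pow_add, h4, one_mul]
  refine ⟨hp, hK4, hKsq, fun x => Subgroup.mem_center_iff.mpr fun g => ?_, hinv⟩
  have h1 : ⁅x * x, g⁆ = 1 := by
    rw [comm_left_of_central hc]
    exact hKsq _ (Subgroup.mem_center_iff.mpr fun k => hc x g k)
  exact (commutatorElement_eq_one_iff_commute.mp h1).eq.symm

/-- An outside involution gives the unitriangular group. -/
theorem sixtyFour_upper {F : Type} [Field F] [Fintype F] (hF : Fintype.card F = 4) (hT : Nat.card T = 64)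
    (hna : ∃ x y : T, x * y ≠ y * x) {r : MulAut T} (h3 : ∀ x, r (r (r x)) = x) (hf : ∀ x, r x = x → x = 1)
    {e : T} (he : e * e = 1) (heK : e ∉ Subgroup.center T) :
    Nonempty (CfsgLib.PSLn.upper F 3 ≃* T) := by
  classical
  obtain ⟨hp, hK4, hKsq, hsqK, hinv⟩ := sixtyFour_basic hT hna h3 hf
  obtain ⟨ω, hω⟩ := four_exists hF
  have hc := fpf_class_two hp h3 hf
  obtain ⟨hmul, hcomm⟩ := fpf_orbit h3 hf he
  obtain ⟨y, hy⟩ : ∃ y : T, ⁅e, y⁆ ≠ 1 := by
    by_contra hn; push Not at hn
    exact heK (Subgroup.mem_center_iff.mpr fun g => (commutatorElement_eq_one_iff_commute.mp (hn g)).eq.symm)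
  set d := ⁅e, y⁆ with hddef
  have hdK : d ∈ Subgroup.center T := Subgroup.mem_center_iff.mpr fun g => hc e y g
  obtain ⟨hdmul, hdcomm⟩ := fpf_orbit h3 hf (hKsq d hdK)
  set s : MulAut T := r * r with hs
  have hs_app : ∀ x, s x = r (r x) := fun x => rfl
  have hs3 : ∀ x, s (s (s x)) = x := fun x => by simp only [hs_app, h3]
  have hdd := hKsq d hdK
  have hssd : s (s d) = r d := by simp only [hs_app, h3]
  have hsmul : d * s d = s (s d) := by rw [hssd, hs_app, ← hdmul, ← mul_assoc, hdd, one_mul]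
  have hscomm : Commute d (s d) := by rw [hs_app, ← hdmul]; exact (Commute.refl d).mul_right hdcomm
  have hsmem : ∀ x ∈ Subgroup.center T, s x ∈ Subgroup.center T := fun x hx => by
    rw [hs_app]; exact hinv _ (hinv x hx)
  have pK : ∀ a, orb ω s d a ∈ Subgroup.center T := fun a => orb_mem hdK hsmem a
  obtain ⟨a, ha⟩ := (Function.Injective.bijective_of_nat_card_le
    (f := fun a : F => (⟨_, pK a⟩ : Subgroup.center T)) (fun u v huv =>
      orb_injective hω hdd hsmul hscomm hs3 hy (congrArg Subtype.val huv))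
    (by rw [hK4, Nat.card_eq_fintype_card, hF])).2 ⟨y * y, hsqK y⟩
  have ha' : orb ω s d a = y * y := congrArg Subtype.val ha
  set f := orb ω r e a * y with hfdef
  have hpe : orb ω r e a * orb ω r e a = 1 := by
    rw [← orb_add hω he hmul hcomm h3, show a + a = 0 by linear_combination a * hω.two, orb_zero]
  have hcy : ⁅orb ω r e a, y⁆ = orb ω s d a := by
    rcases hω.cases a with h0 | h0 | h0 | h0 <;> rw [h0]
    · simp [orb_zero]
    · simp [orb_one, hddef]
    · rw [orb_omega hω, orb_omega hω, (fpf_twist hp h3 hf _ _).1, hs_app]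
    · rw [orb_succ hω, orb_succ hω, (fpf_twist hp h3 hf _ _).1, (fpf_twist hp h3 hf _ _).1, hs_app, hs_app]
  have hff : f * f = 1 := by
    have hyy : ⁅orb ω r e a, y⁆⁻¹ = y * y := by
      rw [hcy, ha']; exact inv_eq_of_mul_eq_one_right (hKsq _ (hsqK y))
    calc f * f = (orb ω r e a * orb ω r e a) * ((orb ω r e a)⁻¹ * y * orb ω r e a * y⁻¹) * (y * y) := by
          rw [hfdef]; group
      _ = ((orb ω r e a)⁻¹ * y * orb ω r e a * y⁻¹) * (y * y) := by rw [hpe, one_mul]
      _ = ⁅orb ω r e a, y⁆ * (y * y) := by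
          rw [inv_eq_of_mul_eq_one_right hpe, commutatorElement_def, inv_eq_of_mul_eq_one_right hpe]
      _ = 1 := by rw [← hyy, mul_inv_cancel]
  refine heisenberg_of_pair hF hT hp h3 hf he hff ?_
  have hea : ⁅e, orb ω r e a⁆ = 1 := by
    refine commutatorElement_eq_one_iff_commute.mpr ?_
    show e * orb ω r e a = orb ω r e a * e
    have h1 := orb_add hω he hmul hcomm h3 1 a
    have h2 := orb_add hω he hmul hcomm h3 a 1
    rw [orb_one] at h1 h2
    rw [← h1, ← h2, add_comm]
  rw [hfdef, comm_right_of_central hc, hea, one_mul]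
  exact hy

/-- An automorphism inverting `r` yields noncommuting fixed elements and an outside involution. -/
theorem sixtyFour_inverted (hT : Nat.card T = 64) (hna : ∃ x y : T, x * y ≠ y * x) {r x : MulAut T}
    (h3 : ∀ g, r (r (r g)) = g) (hf : ∀ g, r g = g → g = 1) (hx2 : ∀ g, x (x g) = g)
    (hxr : ∀ g, x (r g) = r (r (x g))) :
    (∃ m₁ m₂ : T, x m₁ = m₁ ∧ x m₂ = m₂ ∧ ⁅m₁, m₂⁆ ≠ 1) ∧
      (∃ e : T, e * e = 1 ∧ e ∉ Subgroup.center T) ∧
      ∀ C : Subgroup T, (∀ g, g ∈ C ↔ x g = g) → Nat.card C ≤ 8 ∧ ∀ g ∈ C, g * g ∈ Subgroup.center T := by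
  classical
  obtain ⟨hp, hK4, hKsq, hsqK, hinv⟩ := sixtyFour_basic hT hna h3 hf
  have hc := fpf_class_two hp h3 hf
  set K := Subgroup.center T with hKdef
  have hxK : ∀ z ∈ K, x z ∈ K := fun z hz => Subgroup.mem_center_iff.mpr fun g => by
    obtain ⟨g', rfl⟩ := x.surjective g
    rw [← map_mul, Subgroup.mem_center_iff.mp hz g', map_mul]
  -- the fixed points of `x` on `K`
  obtain ⟨v₀, hv₀K, hv₀1, hv₀x, hmove⟩ : ∃ v₀ ∈ K, v₀ ≠ 1 ∧ x v₀ = v₀ ∧
      ∀ z ∈ K, x z = z → z = 1 ∨ z = v₀ := by
    obtain ⟨⟨a, ha⟩, ha1⟩ : ∃ a : K, a ≠ 1 := by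
      haveI : Nontrivial K := Finite.one_lt_card_iff_nontrivial.mp (by omega)
      exact exists_ne 1
    have ha1' : a ≠ 1 := fun h => ha1 (Subtype.ext h)
    have hne1 : r a ≠ a := fun h => ha1' (hf a h)
    have hne2 : r (r a) ≠ r a := fun h => hne1 (r.injective h)
    have hne3 : r (r a) ≠ a := fun h => hne1 (by
      have := congrArg r h; rw [h3] at this; exact this.symm)
    have hr1 : ∀ {g : T}, g ≠ 1 → r g ≠ 1 := fun hg h => hg (r.map_eq_one_iff.mp h)
    have hall : ∀ z ∈ K, z = 1 ∨ z = a ∨ z = r a ∨ z = r (r a) := by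
      intro z hz
      have hsub : ({1, a, r a, r (r a)} : Set T) ⊆ (K : Set T) := by
        intro w hw
        simp only [Set.mem_insert_iff, Set.mem_singleton_iff] at hw
        rcases hw with rfl | rfl | rfl | rfl
        exacts [K.one_mem, ha, hinv a ha, hinv _ (hinv a ha)]
      have hcard : ({1, a, r a, r (r a)} : Set T).ncard = 4 := by
        rw [Set.ncard_insert_of_notMem, Set.ncard_insert_of_notMem, Set.ncard_insert_of_notMem,
          Set.ncard_singleton] <;>
          simp [Ne.symm ha1', Ne.symm (hr1 ha1'), Ne.symm (hr1 (hr1 ha1')), Ne.symm hne1, Ne.symm hne2, Ne.symm hne3]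
      have heq := Set.eq_of_subset_of_ncard_le hsub (le_of_eq (by
        rw [hcard, ← Nat.card_coe_set_eq]; exact hK4)) (Set.toFinite _)
      have : z ∈ ({1, a, r a, r (r a)} : Set T) := by rw [heq]; exact hz
      simpa using this
    have hx1 : ∀ {g : T}, g ≠ 1 → x g ≠ 1 := fun hg h => hg (x.map_eq_one_iff.mp h)
    -- choose the fixed one
    obtain ⟨b, hb, hb1, hbx⟩ : ∃ b ∈ K, b ≠ 1 ∧ x b = b := by
      rcases hall (x a) (hxK a ha) with h | h | h | h
      · exact absurd h (hx1 ha1')
      · exact ⟨a, ha, ha1', h⟩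
      · refine ⟨r (r a), hinv _ (hinv a ha), hr1 (hr1 ha1'), ?_⟩
        rw [hxr, hxr, h, h3]
      · refine ⟨r a, hinv a ha, hr1 ha1', ?_⟩
        rw [hxr, h]; exact h3 (r a)
    refine ⟨b, hb, hb1, hbx, fun z hz hzx => ?_⟩
    have hb' : r b ≠ b := fun h => hb1 (hf b h)
    by_contra hne
    push Not at hne
    -- `z` is `r b` or `r (r b)`
    have hzb : z = r b ∨ z = r (r b) := by
      rcases hall z hz with h | h | h | h <;> rcases hall b hb with h' | h' | h' | h' <;>
        first
          | exact absurd h hne.1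
          | exact absurd h' hb1
          | exact absurd (h.trans h'.symm) hne.2
          | (subst h'; subst h; simp [h3])
    rcases hzb with rfl | rfl
    · rw [hxr, hbx] at hzx
      exact hb' (r.injective hzx)
    · rw [hxr, hxr, hbx, h3] at hzx
      exact hb' (by have := hzx; exact r.injective this.symm)
  -- fixed lifts
  have hlift : ∀ g, g⁻¹ * x g ∈ K → ∃ w ∈ K, x (g * w) = g * w := by
    intro g hg
    set v := g⁻¹ * x g with hv
    have hgv : x g = g * v := by rw [hv]; group
    have hxv : x v = v := by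
      have h1 : g = g * v * x v := by
        conv_lhs => rw [← hx2 g, hgv, map_mul, hgv]
      rw [mul_assoc, left_eq_mul] at h1
      rw [eq_inv_of_mul_eq_one_right h1]
      exact inv_eq_of_mul_eq_one_right (hKsq v hg)
    rcases hmove v hg hxv with h | h
    · exact ⟨1, K.one_mem, by rw [mul_one, hgv, h, mul_one]⟩
    · obtain ⟨w, hw, hwx⟩ : ∃ w ∈ K, x w ≠ w := by
        by_contra hn; push Not at hn
        rcases hmove (r v₀) (hinv _ hv₀K) (hn _ (hinv _ hv₀K)) with h1 | h1
        · exact hv₀1 (r.map_eq_one_iff.mp h1)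
        · exact hv₀1 (hf _ h1)
      have hww : x (w * x w) = w * x w := by
        rw [map_mul, hx2]; exact (Subgroup.mem_center_iff.mp hw (x w))
      rcases hmove _ (K.mul_mem hw (hxK w hw)) hww with h1 | h1
      · exfalso
        exact hwx ((eq_inv_of_mul_eq_one_right h1).trans (inv_eq_of_mul_eq_one_right (hKsq w hw)))
      · refine ⟨w, hw, ?_⟩
        have hxw : x w = w * v₀ := by rw [← h1, ← mul_assoc, hKsq w hw, one_mul]
        rw [map_mul, hgv, hxw, h, mul_assoc, ← mul_assoc v₀, ← Subgroup.mem_center_iff.mp hv₀K w,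
          mul_assoc w, hKsq v₀ hv₀K, mul_one]
  have hC8 : ∀ C : Subgroup T, (∀ g, g ∈ C ↔ x g = g) → Nat.card C ≤ 8 ∧ ∀ g ∈ C, g * g ∈ K := by
    intro C hC
    refine ⟨?_, fun g _ => hsqK g⟩
    let f : C × C → T ⧸ K := fun p => ((p.1 : T) * r (p.2 : T) : T)
    -- the fibres have size at most four
    have hfib : ∀ p p' : C × C, f p = f p' → (p.1 : T)⁻¹ * p'.1 ∈ K ∧ (p.2 : T)⁻¹ * p'.2 ∈ K := by
      intro p p' h
      rw [QuotientGroup.eq] at h
      -- move to the quotient
      let π := QuotientGroup.mk' K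
      have hab : ∀ u v : T, π u * π v = π v * π u := fun u v => by
        rw [← map_mul, ← map_mul, QuotientGroup.mk'_apply, QuotientGroup.mk'_apply, QuotientGroup.eq]
        have : (u * v)⁻¹ * (v * u) = ⁅v⁻¹, u⁻¹⁆ := by simp only [commutatorElement_def]; group
        rw [this]
        exact Subgroup.mem_center_iff.mpr fun k => hc _ _ k
      set a := (p.1 : T)⁻¹ * p'.1 with ha
      set b := (p.2 : T)⁻¹ * p'.2 with hb
      have h1 : a * r b ∈ K := by
        rw [← QuotientGroup.eq_one_iff] at h ⊢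
        show π (a * r b) = 1
        have h' : π (((p.1 : T) * r (p.2 : T))⁻¹ * ((p'.1 : T) * r (p'.2 : T))) = 1 := h
        rw [← h', ha, hb]
        have e : ∀ A A' B B' : T, π (A⁻¹ * A' * (B⁻¹ * B')) = π ((A * B)⁻¹ * (A' * B')) := fun A A' B B' => by
          calc π (A⁻¹ * A' * (B⁻¹ * B')) = π A⁻¹ * (π A' * π B⁻¹) * π B' := by simp only [map_mul, mul_assoc]
            _ = π A⁻¹ * (π B⁻¹ * π A') * π B' := by rw [hab]
            _ = (π A⁻¹ * π B⁻¹) * π A' * π B' := by simp only [mul_assoc]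
            _ = (π B⁻¹ * π A⁻¹) * π A' * π B' := by rw [hab A⁻¹ B⁻¹]
            _ = _ := by simp only [map_mul, _root_.mul_inv_rev, mul_assoc]
        rw [map_mul r, map_inv r]
        exact e _ _ _ _
      have hxa : x a = a := by rw [ha, map_mul, map_inv, (hC _).mp p.1.2, (hC _).mp p'.1.2]
      have hxb : x b = b := by rw [hb, map_mul, map_inv, (hC _).mp p.2.2, (hC _).mp p'.2.2]
      have h2 : a * r (r b) ∈ K := by
        have := hxK _ h1
        rwa [map_mul, hxr, hxa, hxb] at this
      have h4 : b ∈ K := by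
        have h5 : (a * r b)⁻¹ * (a * r (r b)) ∈ K := K.mul_mem (K.inv_mem h1) h2
        rw [show (a * r b)⁻¹ * (a * r (r b)) = (r b)⁻¹ * r (r b) by group] at h5
        have h6 := hinv _ (hinv _ h5)
        simp only [map_mul, map_inv, h3] at h6
        -- `b⁻¹ * r b` is central, and `g ↦ g⁻¹ * r g` is bijective on `K`
        let ψ : K → K := fun w => ⟨(w : T)⁻¹ * r w, K.mul_mem (K.inv_mem w.2) (hinv w w.2)⟩
        have hψ : Function.Injective ψ := by
          intro u v huv
          have h7 := congrArg Subtype.val huv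
          simp only [ψ] at h7
          have : r ((u : T) * (v : T)⁻¹) = (u : T) * (v : T)⁻¹ := by
            rw [map_mul, map_inv]
            calc r u * (r v)⁻¹ = (u : T) * ((u : T)⁻¹ * r u) * (r v)⁻¹ := by group
              _ = (u : T) * ((v : T)⁻¹ * r v) * (r v)⁻¹ := by rw [h7]
              _ = _ := by group
          exact Subtype.ext (mul_inv_eq_one.mp (hf _ this))
        obtain ⟨w, hw⟩ := (Finite.injective_iff_surjective.mp hψ) ⟨_, h6⟩
        have h8 := congrArg Subtype.val hw
        simp only [ψ] at h8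
        have : r (b * (w : T)⁻¹) = b * (w : T)⁻¹ := by
          rw [map_mul, map_inv]
          calc r b * (r w)⁻¹ = b * (b⁻¹ * r b) * (r w)⁻¹ := by group
            _ = b * ((w : T)⁻¹ * r w) * (r w)⁻¹ := by rw [h8]
            _ = _ := by group
        rw [mul_inv_eq_one.mp (hf _ this)]
        exact w.2
      exact ⟨by
        have := K.mul_mem h1 (K.inv_mem (hinv b h4))
        rwa [mul_inv_cancel_right] at this, h4⟩
    obtain ⟨sec, hsec⟩ : ∃ sec : T ⧸ K → C × C, ∀ p, f (sec (f p)) = f p :=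
      ⟨Function.invFun f, fun p => Function.invFun_eq ⟨p, rfl⟩⟩
    have hCK : ∀ g : T, g ∈ C → g ∈ K → g = 1 ∨ g = v₀ := fun g hg hgK => hmove g hgK ((hC g).mp hg)
    let g : C × C → (T ⧸ K) × Bool × Bool := fun p =>
      (f p, decide ((p.1 : T) = (sec (f p)).1), decide ((p.2 : T) = (sec (f p)).2))
    have hg : Function.Injective g := by
      intro p p' h
      simp only [g, Prod.mk.injEq] at h
      obtain ⟨h0, h1, h2⟩ := h
      rw [← h0] at h1 h2
      have key : ∀ u v s : C, (s : T)⁻¹ * u ∈ K → (s : T)⁻¹ * v ∈ K →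
          decide ((u : T) = s) = decide ((v : T) = s) → u = v := by
        intro u v s hu hv he
        rcases hCK _ (C.mul_mem (C.inv_mem s.2) u.2) hu with eu | eu <;>
          rcases hCK _ (C.mul_mem (C.inv_mem s.2) v.2) hv with ev | ev
        · exact Subtype.ext ((inv_mul_eq_one.mp eu).symm.trans (inv_mul_eq_one.mp ev))
        · exfalso
          have h9 := (decide_eq_decide.mp he).mp (inv_mul_eq_one.mp eu).symm
          rw [h9, inv_mul_cancel] at ev
          exact hv₀1 ev.symm
        · exfalso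
          have h9 := (decide_eq_decide.mp he).mpr (inv_mul_eq_one.mp ev).symm
          rw [h9, inv_mul_cancel] at eu
          exact hv₀1 eu.symm
        · exact Subtype.ext (mul_left_cancel (eu.trans ev.symm))
      have a1 := hfib (sec (f p)) p (hsec p)
      have a2 := hfib (sec (f p)) p' ((hsec p).trans h0)
      exact Prod.ext (key _ _ _ a1.1 a2.1 h1) (key _ _ _ a1.2 a2.2 h2)
    have hle := Nat.card_le_card_of_injective g hg
    have hq16 : Nat.card (T ⧸ K) = 16 := by
      have h16 := K.card_eq_card_quotient_mul_card_subgroup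
      rw [hT, hK4] at h16
      omega
    rw [Nat.card_prod, Nat.card_prod, Nat.card_prod, hq16, Nat.card_eq_fintype_card (α := Bool),
      Fintype.card_bool] at hle
    nlinarith
  -- two independent fixed cosets
  have hab : ∀ u v : T, (u * v)⁻¹ * (v * u) ∈ K := fun u v => by
    have : (u * v)⁻¹ * (v * u) = ⁅v⁻¹, u⁻¹⁆ := by simp only [commutatorElement_def]; group
    rw [this]
    exact Subgroup.mem_center_iff.mpr fun k => hc _ _ k
  have hqc : ∀ u v : T ⧸ K, u * v = v * u := by
    intro u v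
    obtain ⟨u, rfl⟩ := QuotientGroup.mk'_surjective K u
    obtain ⟨v, rfl⟩ := QuotientGroup.mk'_surjective K v
    rw [← map_mul, ← map_mul, QuotientGroup.mk'_apply, QuotientGroup.mk'_apply, QuotientGroup.eq]
    exact hab u v
  let xq : T ⧸ K →* T ⧸ K := QuotientGroup.map K K x.toMonoidHom (fun z hz => hxK z hz)
  have hxq : ∀ g : T, xq (g : T ⧸ K) = ((x g : T) : T ⧸ K) := fun g => rfl
  let δ : T ⧸ K →* T ⧸ K :=
    { toFun := fun u => u * xq u
      map_one' := by rw [map_one, one_mul]
      map_mul' := fun u v => by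
        rw [map_mul, mul_assoc, ← mul_assoc v, hqc v (xq u), mul_assoc (xq u), ← mul_assoc] }
  have hsqQ : ∀ u : T ⧸ K, u * u = 1 := by
    intro u
    obtain ⟨u, rfl⟩ := QuotientGroup.mk'_surjective K u
    rw [← map_mul, QuotientGroup.mk'_apply, QuotientGroup.eq_one_iff]
    exact hsqK u
  have hFix4 : 4 ≤ Nat.card δ.ker := by
    have h1 := δ.ker.card_mul_index
    rw [Subgroup.index_ker] at h1
    have h2 : δ.range ≤ δ.ker := by
      rintro _ ⟨u, rfl⟩
      rw [MonoidHom.mem_ker]
      show u * xq u * xq (u * xq u) = 1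
      obtain ⟨u, rfl⟩ := QuotientGroup.mk'_surjective K u
      rw [map_mul, QuotientGroup.mk'_apply, hxq, hxq, hx2, hqc ((x u : T) : T ⧸ K) (u : T ⧸ K), hsqQ]
    have h3' : Nat.card δ.range ≤ Nat.card δ.ker := Subgroup.card_le_of_le h2
    have hq16 : Nat.card (T ⧸ K) = 16 := by
      have h16 := K.card_eq_card_quotient_mul_card_subgroup
      rw [hT, hK4] at h16
      omega
    rw [hq16] at h1
    nlinarith
  have hfixcoset : ∀ g : T, ((g : T) : T ⧸ K) ∈ δ.ker → ∃ w ∈ K, x (g * w) = g * w := by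
    intro g hg
    refine hlift g ?_
    rw [MonoidHom.mem_ker] at hg
    have h1 : xq (g : T ⧸ K) = (g : T ⧸ K) := by
      have h2 : (g : T ⧸ K) * xq (g : T ⧸ K) = (g : T ⧸ K) * (g : T ⧸ K) := hg.trans (hsqQ _).symm
      exact mul_left_cancel h2
    rw [hxq] at h1
    exact QuotientGroup.eq.mp h1.symm
  obtain ⟨u₁, hu₁, hu1⟩ : ∃ u ∈ δ.ker, u ≠ 1 := by
    by_contra hn; push Not at hn
    rw [(Subgroup.eq_bot_iff_forall _).mpr hn, Subgroup.card_bot] at hFix4
    omega
  obtain ⟨u₂, hu₂, hu21, hu22⟩ : ∃ u ∈ δ.ker, u ≠ 1 ∧ u ≠ u₁ := by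
    by_contra hn; push Not at hn
    have hle : Nat.card δ.ker ≤ Nat.card Bool := Nat.card_le_card_of_injective
      (fun u => decide ((u : T ⧸ K) = 1)) (fun a b hab' => by
        refine Subtype.ext ?_
        have h' := decide_eq_decide.mp hab'
        by_cases ha : (a : T ⧸ K) = 1
        · rw [ha, h'.mp ha]
        · rw [hn _ a.2 ha, hn _ b.2 (fun hb => ha (h'.mpr hb))])
    rw [Nat.card_eq_fintype_card (α := Bool), Fintype.card_bool] at hle
    omega
  obtain ⟨g₁, rfl⟩ := QuotientGroup.mk'_surjective K u₁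
  obtain ⟨g₂, rfl⟩ := QuotientGroup.mk'_surjective K u₂
  obtain ⟨w₁, hw₁, hm₁⟩ := hfixcoset g₁ hu₁
  obtain ⟨w₂, hw₂, hm₂⟩ := hfixcoset g₂ hu₂
  set m₁ := g₁ * w₁ with hm1def
  set m₂ := g₂ * w₂ with hm2def
  have hπ : ∀ g w, w ∈ K → ((g * w : T) : T ⧸ K) = (g : T ⧸ K) := fun g w hw => by
    rw [QuotientGroup.mk_mul, (QuotientGroup.eq_one_iff w).mpr hw, mul_one]
  -- they do not commute
  have hB : ⁅m₁, m₂⁆ ≠ 1 := by
    intro hcom
    let A : Subgroup T := Subgroup.centralizer {m₁}
    have hrA : ∀ g ∈ A, r g ∈ A := by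
      intro g hg
      have h1 : ⁅m₁, g⁆ = 1 := commutatorElement_eq_one_iff_commute.mpr
        (Subgroup.mem_centralizer_singleton_iff.mp hg).symm
      refine Subgroup.mem_centralizer_singleton_iff.mpr (commutatorElement_eq_one_iff_commute.mp ?_).symm
      rw [(fpf_twist hp h3 hf m₁ g).2, h1, map_one, map_one]
    have hm₁K : m₁ ∉ K := fun h => hu1 (by
      rw [QuotientGroup.mk'_apply, ← hπ g₁ w₁ hw₁, QuotientGroup.eq_one_iff]; exact h)
    obtain ⟨y, hy⟩ : ∃ y, y ∉ A := by
      by_contra hn; push Not at hn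
      exact hm₁K (Subgroup.mem_center_iff.mpr fun g => (Subgroup.mem_centralizer_singleton_iff.mp (hn g)))
    let φ : T →* K :=
      { toFun := fun g => ⟨⁅m₁, g⁆, Subgroup.mem_center_iff.mpr fun k => hc _ _ k⟩
        map_one' := Subtype.ext (by simp)
        map_mul' := fun u v => Subtype.ext (comm_right_of_central hc m₁ u v) }
    have hker : φ.ker = A := by
      ext g
      rw [MonoidHom.mem_ker, Subtype.ext_iff]
      show ⁅m₁, g⁆ = 1 ↔ _
      rw [commutatorElement_eq_one_iff_commute, Subgroup.mem_centralizer_singleton_iff]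
      exact ⟨fun h => h.eq.symm, fun h => h.symm⟩
    have hrange : 4 ≤ Nat.card φ.range := by
      set d := ⁅m₁, y⁆ with hd
      have hd1 : d ≠ 1 := fun h => hy (by
        rw [← hker, MonoidHom.mem_ker]; exact Subtype.ext h)
      have hr1 : ∀ {g : T}, g ≠ 1 → r g ≠ 1 := fun hg h => hg (r.map_eq_one_iff.mp h)
      let S : Set T := {1, d, r d, r (r d)}
      have hS : S.ncard = 4 := by
        have n1 : r d ≠ d := fun h => hd1 (hf d h)
        have n2 : r (r d) ≠ r d := fun h => n1 (r.injective h)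
        have n3 : r (r d) ≠ d := fun h => n1 (by have := congrArg r h; rw [h3] at this; exact this.symm)
        rw [Set.ncard_insert_of_notMem, Set.ncard_insert_of_notMem, Set.ncard_insert_of_notMem,
          Set.ncard_singleton] <;>
          simp [Ne.symm hd1, Ne.symm (hr1 hd1), Ne.symm (hr1 (hr1 hd1)), Ne.symm n1, Ne.symm n2, Ne.symm n3]
      have hsub : S ⊆ (fun k : K => (k : T)) '' (φ.range : Set K) := by
        have e1 : r (r d) = ⁅m₁, r y⁆ := (fpf_twist hp h3 hf m₁ y).2.symm
        have e2 : r d = ⁅m₁, r (r y)⁆ := by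
          rw [(fpf_twist hp h3 hf m₁ (r y)).2, ← e1, h3]
        intro z hz
        simp only [S, Set.mem_insert_iff, Set.mem_singleton_iff] at hz
        rcases hz with rfl | rfl | rfl | rfl
        · exact ⟨1, one_mem _, rfl⟩
        · exact ⟨φ y, ⟨y, rfl⟩, rfl⟩
        · exact ⟨φ (r (r y)), ⟨_, rfl⟩, e2.symm⟩
        · exact ⟨φ (r y), ⟨_, rfl⟩, e1.symm⟩
      calc 4 = S.ncard := hS.symm
        _ ≤ ((fun k : K => (k : T)) '' (φ.range : Set K)).ncard := Set.ncard_le_ncard hsub (Set.toFinite _)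
        _ ≤ (φ.range : Set K).ncard := Set.ncard_image_le (Set.toFinite _)
        _ = _ := (Nat.card_coe_set_eq _).symm
    have hA : Nat.card A ≤ 16 := by
      have h1 := φ.ker.card_mul_index
      rw [Subgroup.index_ker, hker, hT] at h1
      nlinarith
    -- the image of `A` in the quotient
    let π := QuotientGroup.mk' K
    have hKA : K ≤ A := fun z hz => Subgroup.mem_centralizer_singleton_iff.mpr (Subgroup.mem_center_iff.mp hz m₁).symm
    have hm1A : m₁ ∈ A := Subgroup.mem_centralizer_singleton_iff.mpr rfl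
    have hm2A : m₂ ∈ A := Subgroup.mem_centralizer_singleton_iff.mpr
      (commutatorElement_eq_one_iff_commute.mp hcom).eq.symm
    have himg : Nat.card (A.map π) ≤ 4 := by
      have h1 := (π.comp A.subtype).ker.card_mul_index
      rw [Subgroup.index_ker] at h1
      have h2 : (π.comp A.subtype).range = A.map π := by rw [MonoidHom.range_comp, Subgroup.range_subtype]
      have h3' : Nat.card (π.comp A.subtype).ker = 4 := by
        rw [show (π.comp A.subtype).ker = K.subgroupOf A by
          ext a; simp [π, Subgroup.mem_subgroupOf]]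
        exact (Nat.card_congr (Subgroup.subgroupOfEquivOfLe hKA).toEquiv).trans hK4
      rw [h2, h3'] at h1
      omega
    set a := (g₁ : T ⧸ K) with hadef
    set b := (g₂ : T ⧸ K) with hbdef
    have hm1a : π m₁ = a := hπ g₁ w₁ hw₁
    have hm2b : π m₂ = b := hπ g₂ w₂ hw₂
    set c := π (r m₁) with hcdef
    have hc1 : c ≠ 1 := fun h => hm₁K (by
      have := hinv _ (hinv _ ((QuotientGroup.eq_one_iff _).mp h))
      rwa [h3] at this)
    have hcx : xq c ≠ c := by
      intro h
      show False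
      rw [hcdef, QuotientGroup.mk'_apply, hxq, hxr, hm₁, QuotientGroup.eq] at h
      have h6 := hinv _ h
      simp only [map_mul, map_inv, h3] at h6
      -- `m₁⁻¹ * r (r m₁)` central forces `m₁` central
      have hp1 : (π m₁)⁻¹ * c * c = 1 := by
        have h7 : π (r (r m₁)) = c := by
          rw [hcdef, QuotientGroup.mk'_apply, QuotientGroup.mk'_apply, QuotientGroup.eq]
          exact h
        have h8 := congrArg π (one_add_r_add_sq r h3 hf m₁)
        rw [map_mul, map_mul, map_one, h7, ← hcdef] at h8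
        rw [mul_assoc, hsqQ, mul_one]
        rw [mul_assoc, hsqQ, mul_one] at h8
        rw [h8, inv_one]
      rw [mul_assoc, hsqQ, mul_one, inv_eq_one] at hp1
      exact hm₁K ((QuotientGroup.eq_one_iff _).mp hp1)
    have hxa : xq a = a := by
      rw [← hm1a, QuotientGroup.mk'_apply, hxq, hm₁]
    have hxb : xq b = b := by
      rw [← hm2b, QuotientGroup.mk'_apply, hxq, hm₂]
    have hca : c ≠ a := fun h => hcx (by rw [h]; exact hxa)
    have hcb : c ≠ b := fun h => hcx (by rw [h]; exact hxb)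
    have hmem : ∀ {g : T}, g ∈ A → π g ∈ A.map π := fun hg => Subgroup.mem_map_of_mem _ hg
    have hfive : ({1, a, b, c, a * b} : Set (T ⧸ K)) ⊆ (A.map π : Set (T ⧸ K)) := by
      intro z hz
      simp only [Set.mem_insert_iff, Set.mem_singleton_iff] at hz
      rcases hz with rfl | rfl | rfl | rfl | rfl
      · exact one_mem _
      · exact hm1a ▸ hmem hm1A
      · exact hm2b ▸ hmem hm2A
      · exact hmem (hrA _ hm1A)
      · exact Subgroup.mul_mem _ (hm1a ▸ hmem hm1A) (hm2b ▸ hmem hm2A)
    have ha1 : a ≠ 1 := hu1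
    have hb1 : b ≠ 1 := hu21
    have hba : b ≠ a := hu22
    have hab1 : a * b ≠ 1 := fun h => hba ((eq_inv_of_mul_eq_one_right h).trans (inv_eq_of_mul_eq_one_right (hsqQ a)))
    have haba : a * b ≠ a := fun h => hb1 (mul_eq_left.mp h)
    have habb : a * b ≠ b := fun h => ha1 (mul_eq_right.mp h)
    have habc : a * b ≠ c := fun h => hcx (by rw [← h, map_mul, hxa, hxb])
    have h5 : ({1, a, b, c, a * b} : Set (T ⧸ K)).ncard = 5 := by
      rw [Set.ncard_insert_of_notMem, Set.ncard_insert_of_notMem, Set.ncard_insert_of_notMem,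
        Set.ncard_insert_of_notMem, Set.ncard_singleton] <;>
        simp [Ne.symm ha1, Ne.symm hb1, Ne.symm hc1, Ne.symm hab1, Ne.symm hba, Ne.symm hca, Ne.symm hcb,
          Ne.symm haba, Ne.symm habb, Ne.symm habc]
    have := Set.ncard_le_ncard hfive (Set.toFinite _)
    rw [h5, ← Nat.card_coe_set_eq] at this
    exact absurd (this.trans himg) (by norm_num)
  refine ⟨⟨m₁, m₂, hm₁, hm₂, hB⟩, ?_, hC8⟩
  by_contra hno
  push Not at hno
  -- every square of a fixed lift is the fixed involution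
  have hq : ∀ g, x g = g → g ∉ K → g * g = v₀ := fun g hg hgK => by
    rcases hmove (g * g) (hsqK g) (by rw [map_mul, hg]) with h | h
    · exact absurd (hno g h) hgK
    · exact h
  have hmK : ∀ g w : T, w ∈ K → ((g : T) : T ⧸ K) ≠ 1 → g * w ∉ K := fun g w hw hg h => hg (by
    rw [← hπ g w hw, QuotientGroup.eq_one_iff]; exact h)
  have e1 := hq m₁ hm₁ (hmK g₁ w₁ hw₁ hu1)
  have e2 := hq m₂ hm₂ (hmK g₂ w₂ hw₂ hu21)
  have h12K : m₁ * m₂ ∉ K := fun h => hu22 (by
    rw [← QuotientGroup.eq_one_iff, QuotientGroup.mk_mul, hπ g₁ w₁ hw₁, hπ g₂ w₂ hw₂] at h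
    exact (eq_inv_of_mul_eq_one_right h).trans (inv_eq_of_mul_eq_one_right (hsqQ _)))
  have e3 := hq (m₁ * m₂) (by rw [map_mul, hm₁, hm₂]) h12K
  have hcK : ∀ u v : T, ⁅u, v⁆ ∈ K := fun u v => Subgroup.mem_center_iff.mpr fun k => hc u v k
  have hsq : ∀ u v : T, (u * v) * (u * v) = (u * u) * (v * v) * ⁅u, v⁆ := fun u v => by
    calc u * v * (u * v) = (u * v * u⁻¹ * v⁻¹) * (v * (u * u) * v) := by group
      _ = ⁅u, v⁆ * ((u * u) * v * v) := by
          rw [Subgroup.mem_center_iff.mp (hsqK u) v, commutatorElement_def]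
      _ = (u * u) * (v * v) * ⁅u, v⁆ := by rw [hc u v (u * u * (v * v)), mul_assoc (u * u) v v]
  have hBv : ⁅m₁, m₂⁆ = v₀ := by
    have := hsq m₁ m₂
    rw [e3, e1, e2, hKsq v₀ hv₀K, one_mul] at this
    exact this.symm
  have hz : (m₁ * r m₂) * (m₁ * r m₂) = 1 := by
    rw [hsq, e1, ← map_mul, e2, (fpf_twist hp h3 hf m₁ m₂).2, hBv]
    exact one_add_r_add_sq r h3 hf v₀
  have hzK := hno _ hz
  -- so `r m₂` is `x`-fixed modulo `K`
  have h9 : (r m₂)⁻¹ * r (r m₂) ∈ K := by
    have h10 := hxK _ hzK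
    rw [map_mul, hxr, hm₁, hm₂] at h10
    have h11 := K.mul_mem (K.inv_mem hzK) h10
    rwa [show (m₁ * r m₂)⁻¹ * (m₁ * r (r m₂)) = (r m₂)⁻¹ * r (r m₂) by group] at h11
  have h12 : r m₂ ∈ K := by
    have h13 : ((r (r m₂) : T) : T ⧸ K) = ((r m₂ : T) : T ⧸ K) := (QuotientGroup.eq.mpr h9).symm
    have h14 := congrArg (QuotientGroup.mk' K) (one_add_r_add_sq r h3 hf m₂)
    simp only [map_mul, map_one, QuotientGroup.mk'_apply, h13] at h14
    rw [mul_assoc, hsqQ, mul_one, QuotientGroup.eq_one_iff] at h14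
    exact hinv _ h14
  have := hinv _ (hinv _ h12)
  rw [h3] at this
  exact (hmK g₂ w₂ hw₂ hu21) this

end CfsgLib.FpfTwo
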