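import Cfsg.Agent.Lib.FpfTwo.SixtyFour
import Cfsg.Agent.Lib.SuzukiTwo.SixtyFour

/-!
The Sylow `2`-group of `PSU(3,4)` has no automorphism group isomorphic to the symmetric group of degree `3`.
-/

set_option autoImplicit false
set_option linter.unusedSectionVars false

universe u

namespace CfsgLib.SuzukiTwo

open scoped commutatorElement

variable {W : Type u} [Group W] [Finite W]

theorem Sixty.exists_noncentral (h : Sixty W) : ∃ g : W, g ∉ Subgroup.center W := by
  by_contra hn
  push Not at hn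
  have : Subgroup.center W = ⊤ := top_le_iff.mp fun g _ => hn g
  have hc := h.card_center
  rw [this, Subgroup.card_top, h.card] at hc
  omega

theorem Sixty.four (h : Sixty W) {a b : W} (ha : a ∈ Subgroup.center W) (hb : b ∈ Subgroup.center W)
    (ha1 : a ≠ 1) (hb1 : b ≠ 1) (hab : a ≠ b) :
    ∀ v ∈ Subgroup.center W, v = 1 ∨ v = a ∨ v = b ∨ v = a * b := by
  intro v hv
  have hsub : ({1, a, b, a * b} : Set W) ⊆ (Subgroup.center W : Set W) := by
    intro u hu
    simp only [Set.mem_insert_iff, Set.mem_singleton_iff] at hu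
    rcases hu with rfl | rfl | rfl | rfl
    exacts [one_mem _, ha, hb, mul_mem ha hb]
  have h1 : a * b ≠ 1 := fun he => hab ((eq_inv_of_mul_eq_one_left he).trans
    (inv_eq_of_mul_eq_one_right (h.cen b hb)))
  have hcard : ({1, a, b, a * b} : Set W).ncard = 4 := by
    rw [Set.ncard_insert_of_notMem, Set.ncard_insert_of_notMem, Set.ncard_insert_of_notMem,
      Set.ncard_singleton] <;>
      simp [Ne.symm ha1, Ne.symm hb1, Ne.symm h1, hab, ha1, hb1]
  have heq := Set.eq_of_subset_of_ncard_le hsub (le_of_eq (by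
    rw [hcard, ← Nat.card_coe_set_eq]; exact h.card_center)) (Set.toFinite _)
  have : v ∈ ({1, a, b, a * b} : Set W) := by rw [heq]; exact hv
  simpa using this

theorem Sixty.sq_mul (h : Sixty W) (u v : W) : u * v * (u * v) = u * u * (v * v) * ⁅u, v⁆ := by
  have hc := Subgroup.mem_center_iff.mp (h.cc u v)
  calc u * v * (u * v) = (u * v * u⁻¹ * v⁻¹) * (v * (u * u) * v) := by group
    _ = ⁅u, v⁆ * ((u * u) * v * v) := by
        rw [Subgroup.mem_center_iff.mp (h.sq u) v, commutatorElement_def]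
    _ = _ := by rw [hc (u * u * (v * v)), mul_assoc (u * u) v v]

/-- An automorphism of order `3` moves the centre. -/
theorem Sixty.moves_center (h : Sixty W) {r : MulAut W} (h3 : ∀ g, r (r (r g)) = g) (hr : ∃ g, r g ≠ g) :
    ∃ z ∈ Subgroup.center W, r z ≠ z := by
  classical
  by_contra hno
  push Not at hno
  set K := Subgroup.center W with hK
  have hfixmod : ∀ g, g⁻¹ * r g ∈ K → r g = g := by
    intro g hg
    set k := g⁻¹ * r g with hk
    have hg' : r g = g * k := by rw [hk]; group
    have hrk := hno k hg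
    have h2 : r (r g) = g := by rw [hg', map_mul, hrk, hg', mul_assoc, h.cen k hg, mul_one]
    have := h3 g
    rwa [h2] at this
  have hprod : ∀ g : W, (g⁻¹ * r g) * r (g⁻¹ * r g) * r (r (g⁻¹ * r g)) = 1 := fun g => by
    simp only [map_mul, map_inv, h3]; group
  -- `n` and `r n` do not commute
  have hnc : ∀ n : W, n * r n * r (r n) = 1 → ⁅n, r n⁆ = 1 → n ∈ K := by
    intro n hn hcom
    refine h.inv n ?_
    have h2 : r (r n) = (n * r n)⁻¹ := eq_inv_of_mul_eq_one_right hn
    have h4 : r (r n) * r (r n) = n * n := by rw [← map_mul, ← map_mul, hno _ (h.sq n), hno _ (h.sq n)]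
    rw [h2, ← _root_.mul_inv_rev, h.sq_mul, hcom, mul_one, ← map_mul, hno _ (h.sq n), h.cen _ (h.sq n), inv_one] at h4
    exact h4.symm
  -- fixed elements are central
  have hfixK : ∀ c, r c = c → c ∈ K := by
    intro c hc
    by_contra hcK
    obtain ⟨g, hg⟩ := hr
    set n := g⁻¹ * r g with hn
    have hcn : ∀ v, ⁅c, v⁆ = 1 → v ∈ Subgroup.centralizer ({c} : Set W) := fun v hv =>
      Subgroup.mem_centralizer_singleton_iff.mpr (commutatorElement_eq_one_iff_commute.mp hv).eq.symm
    have hcc : ∀ v, ⁅c, r v⁆ = ⁅c, v⁆ := fun v => by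
      conv_lhs => rw [← hc]
      rw [← map_commutatorElement, hno _ (h.cc c v)]
    have h1 : ⁅c, n⁆ = 1 := by
      rw [hn, commutator_right_central (h.cc c (r g)), hcc, ← commutator_right_central (h.cc c g), inv_mul_cancel]
      exact commutatorElement_one_right c
    have h2 := h.centralizer_comm hcK n (hcn n h1) (r n) (hcn _ (by rw [hcc, h1]))
    have := hnc n (hprod g) (commutatorElement_eq_one_iff_commute.mpr h2)
    exact hg (hfixmod g this)
  -- the square is a commutator
  have hq : ∀ u, ⁅u, r u⁆ = u * u := by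
    intro u
    have hs : r (u * r u * r (r u)) = u * r u * r (r u) := by
      refine hfixmod _ ?_
      rw [show (u * r u * r (r u))⁻¹ * r (u * r u * r (r u)) =
        ⁅(r u * r (r u))⁻¹, u⁻¹⁆ by simp only [map_mul, h3, commutatorElement_def]; group]
      exact h.cc _ _
    have hs' := hfixK _ hs
    set s := u * r u * r (r u) with hsdef
    have h2 : r (r u) = (u * r u)⁻¹ * s := by rw [hsdef]; group
    have h4 : r (r u) * r (r u) = u * u := by rw [← map_mul, ← map_mul, hno _ (h.sq u), hno _ (h.sq u)]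
    rw [h2, h.sq_mul, h.cen s hs', mul_one, ← _root_.mul_inv_rev,
      show ⁅(u * r u)⁻¹, s⁆ = 1 from commutatorElement_eq_one_iff_commute.mpr (Subgroup.mem_center_iff.mp hs' _),
      mul_one, h.sq_mul, ← map_mul, hno _ (h.sq u), h.cen _ (h.sq u), one_mul,
      inv_eq_of_mul_eq_one_right (h.cen _ (h.cc u (r u)))] at h4
    exact h4
  obtain ⟨n, hn⟩ := h.exists_noncentral
  set z := n * n with hz
  have hzK := h.sq n
  have hz1 : z ≠ 1 := fun he => hn (h.inv n he)
  obtain ⟨z₂, hz₂K, hz₂1, hz₂z⟩ : ∃ z₂ ∈ K, z₂ ≠ 1 ∧ z₂ ≠ z := by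
    by_contra hno'
    push Not at hno'
    have hle : (K : Set W) ⊆ {1, z} := fun v hv => by
      by_cases hv1 : v = 1
      · exact Or.inl hv1
      · exact Or.inr (hno' v hv hv1)
    have h1 := Set.ncard_le_ncard hle (Set.toFinite _)
    have h2 := Set.ncard_insert_le (1 : W) {z}
    rw [Set.ncard_singleton] at h2
    rw [← Nat.card_coe_set_eq] at h1
    change Nat.card K ≤ _ at h1
    rw [h.card_center] at h1
    omega
  obtain ⟨c, hcn, hc⟩ := h.exists_sqrt hn hz₂K
  have hcK : c ∉ K := fun hm => hz₂1 (hc ▸ h.cen c hm)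
  have hnc' : ⁅n, c⁆ = 1 := commutatorElement_eq_one_iff_commute.mpr
    (Subgroup.mem_centralizer_singleton_iff.mp hcn).symm
  have hncsq : n * c * (n * c) = z * z₂ := by rw [h.sq_mul, hc, hnc', mul_one]
  have hncK : n * c ∉ K := fun hm => by
    have := h.cen _ hm
    rw [hncsq] at this
    exact hz₂z ((eq_inv_of_mul_eq_one_right this).trans (inv_eq_of_mul_eq_one_right (h.cen z hzK)))
  have hnn : n ∈ Subgroup.centralizer ({n} : Set W) := Subgroup.mem_centralizer_singleton_iff.mpr rfl
  have hCnc := h.centralizer_eq hn (mul_mem hnn hcn) hncK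
  have hmemn : ∀ {v : W}, ⁅n, v⁆ = 1 → v ∈ Subgroup.centralizer ({n} : Set W) := fun hv =>
    Subgroup.mem_centralizer_singleton_iff.mpr (commutatorElement_eq_one_iff_commute.mp hv).eq.symm
  have hmemn' : ∀ {v : W}, ⁅n * c, v⁆ = 1 → ⁅n, v⁆ = 1 := fun hv => by
    refine commutatorElement_eq_one_iff_commute.mpr (Subgroup.mem_centralizer_singleton_iff.mp ?_).symm
    rw [← hCnc]
    exact Subgroup.mem_centralizer_singleton_iff.mpr (commutatorElement_eq_one_iff_commute.mp hv).eq.symm
  set w := ⁅n, r c⁆ with hw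
  have hw' : ⁅c, r n⁆ = w := by
    have h1 := hq (n * c)
    rw [hncsq, map_mul, commutator_left_central (h.cc c (r n * r c)), commutator_right_central (h.cc n (r c)),
      commutator_right_central (h.cc c (r c)), hq n, hq c, hc, ← hw, ← hz] at h1
    have h2 : (z * z₂) * (⁅c, r n⁆ * w) = z * z₂ := by
      have k2 := Subgroup.mem_center_iff.mp (h.cc c (r n))
      have k3 := Subgroup.mem_center_iff.mp hzK
      calc z * z₂ * (⁅c, r n⁆ * w) = (z * z₂) * ⁅c, r n⁆ * w := (mul_assoc _ _ _).symm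
        _ = ⁅c, r n⁆ * (z * z₂) * w := by rw [k2 (z * z₂)]
        _ = ⁅c, r n⁆ * (z₂ * z) * w := by rw [k3 z₂]
        _ = ⁅c, r n⁆ * z₂ * (z * w) := by group
        _ = _ := h1
    rw [mul_eq_left] at h2
    rw [eq_inv_of_mul_eq_one_left h2]
    exact inv_eq_of_mul_eq_one_right (h.cen _ (h.cc _ _))
  have hnz : ⁅n, r n⁆ = z := hq n
  rcases h.four hzK hz₂K hz1 hz₂1 (Ne.symm hz₂z) w (h.cc _ _) with hw1 | hw1 | hw1 | hw1
  · -- `r c` centralises `n`
    have h1 := h.centralizer_comm hn c hcn (r c) (hmemn hw1)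
    exact hz₂1 (by rw [← hc, ← hq c]; exact commutatorElement_eq_one_iff_commute.mpr h1)
  · refine hz1 ?_
    rw [← hnz]
    refine hmemn' ?_
    rw [commutator_left_central (h.cc c (r n)), hnz, hw', hw1, h.cen z hzK]
  · refine hz₂1 ?_
    rw [← hw1]
    refine hmemn' ?_
    rw [commutator_left_central (h.cc c (r c)), ← hw, hw1, hq c, hc, h.cen z₂ hz₂K]
  · have h1 : n * r c * (n * r c) = 1 := by
      rw [h.sq_mul, ← map_mul, hc, hno _ hz₂K, ← hw, hw1, ← hz, h.cen _ (K.mul_mem hzK hz₂K)]
    have h2 := h.inv _ h1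
    have h3' : w = 1 := by
      have h4 : ⁅n, n * r c⁆ = 1 :=
        commutatorElement_eq_one_iff_commute.mpr (Subgroup.mem_center_iff.mp h2 n)
      rwa [commutator_right_central (h.cc n (r c)), commutatorElement_self, one_mul] at h4
    rw [hw1] at h3'
    exact hz₂z ((eq_inv_of_mul_eq_one_right h3').trans (inv_eq_of_mul_eq_one_right (h.cen z hzK)))

/-- No automorphisms forming a symmetric group of degree `3`. -/
theorem Sixty.no_dihedral (h : Sixty W) {r x : MulAut W} (h3 : ∀ g, r (r (r g)) = g) (hx2 : ∀ g, x (x g) = g)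
    (hxr : ∀ g, x (r g) = r (r (x g))) : ∀ g, r g = g := by
  classical
  by_contra hr
  push Not at hr
  obtain ⟨a, ha, ham⟩ := h.moves_center h3 hr
  have hrK : ∀ v ∈ Subgroup.center W, r v ∈ Subgroup.center W := fun v hv => Subgroup.mem_center_iff.mpr fun g => by
    obtain ⟨g', rfl⟩ := r.surjective g
    rw [← map_mul, Subgroup.mem_center_iff.mp hv g', map_mul]
  have ha1 : a ≠ 1 := fun he => ham (by rw [he, map_one])
  have hfK : ∀ v ∈ Subgroup.center W, r v = v → v = 1 := by
    intro v hv hrv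
    by_contra hv1
    rcases h.four ha hv ha1 hv1 (fun he => ham (he ▸ hrv)) (r a) (hrK a ha) with h1 | h1 | h1 | h1
    · exact ha1 (r.map_eq_one_iff.mp h1)
    · exact ham h1
    · exact ham (by
        have : a = v := r.injective (h1.trans hrv.symm)
        rw [this]; exact hrv)
    · have h2 := h3 a
      rw [h1, map_mul, hrv, h1, mul_assoc, h.cen v hv, mul_one, h1] at h2
      exact hv1 (mul_eq_left.mp h2)
  have hf : ∀ g, r g = g → g = 1 := fun g hg =>
    hfK g (h.inv g (hfK _ (h.sq g) (by rw [map_mul, hg]))) hg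
  obtain ⟨g, hg⟩ := h.exists_noncentral
  have hna : ∃ p q : W, p * q ≠ q * p := by
    by_contra hn
    push Not at hn
    exact hg (Subgroup.mem_center_iff.mpr fun k => hn k g)
  obtain ⟨-, ⟨e, he, heK⟩, -⟩ := CfsgLib.FpfTwo.sixtyFour_inverted h.card hna h3 hf hx2 hxr
  exact heK (h.inv e he)

end CfsgLib.SuzukiTwo
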